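import Groth.Agent.Hyp31.AS
import Groth.Agent.FF30.AlgClosed

/-! Artin–Schreier double covers of the line over an algebraically closed field, poles at finite points. -/

namespace Groth.Agent.Hyp31

open FunFld WithZero Polynomial
open scoped LaurentSeries IntermediateField

universe u v w

variable {k : Type u} [Field k]

local notation "ι" => algebraMap (Polynomial k) (RatFunc k)

theorem alg_X_sub_C (α : k) : ι (X - C α) = RatFunc.X - RatFunc.C α := by
  rw [map_sub, RatFunc.algebraMap_X, RatFunc.algebraMap_C]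

theorem algebraMap_C' (α : k) : algebraMap k (RatFunc k) α = RatFunc.C α := by
  rw [← RatFunc.algebraMap_C]; rfl

theorem exists_place_at (α : k) :
    ∃ p : Place k (RatFunc k), p.1 (RatFunc.X - RatFunc.C α) < 1 := by
  have hF := FF30.ratFunc_ff k
  set z : RatFunc k := RatFunc.X - RatFunc.C α with hz
  have htr : Transcendental k z := by
    intro h
    have h' := h.add (isAlgebraic_algebraMap (R := k) (A := RatFunc k) α)
    rw [algebraMap_C', hz, sub_add_cancel] at h'
    obtain ⟨g, hg0, hg⟩ := h'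
    rw [RatFunc.aeval_X_left_eq_algebraMap] at hg
    exact hg0 ((map_eq_zero_iff _ (RatFunc.algebraMap_injective k)).1 hg)
  have h := hF.deg_zeroDiv htr
  have := hF.finiteDimensional_adjoin htr
  have hpos : 0 < Module.finrank k⟮z⟯ (RatFunc k) := Module.finrank_pos
  by_contra hno
  push Not at hno
  have hz0 : div k z ⊔ 0 = 0 := Finsupp.ext fun P => by
    rw [Finsupp.sup_apply, hF.div_apply, Finsupp.zero_apply, max_eq_right]
    by_contra hP
    have hz0 : z ≠ 0 := fun h => htr (h ▸ isAlgebraic_zero)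
    exact absurd ((FF30.val_lt_one_iff P hz0).2 (not_le.1 hP)) (not_lt.2 (hno P))
  rw [hz0, FF30.deg_zero] at h
  omega

theorem val_X_sub_C_of_ne {p : Place k (RatFunc k)} {α β : k} (h : p.1 (RatFunc.X - RatFunc.C α) < 1)
    (hne : β ≠ α) : p.1 (RatFunc.X - RatFunc.C β) = 1 := by
  rw [← alg_X_sub_C] at h ⊢
  rw [FF30.val_eq_one_iff p ((map_ne_zero_iff _ (RatFunc.algebraMap_injective k)).2 (X_sub_C_ne_zero β))]
  refine FF30.ord_poly_eq_zero p (irreducible_X_sub_C α) h fun hd => hne ?_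
  have := (dvd_iff_isRoot.1 hd)
  simp only [IsRoot, eval_sub, eval_X, eval_C] at this
  exact (sub_eq_zero.1 this).symm

theorem ord_X_nonneg_of_at {p : Place k (RatFunc k)} {α : k} (h : p.1 (RatFunc.X - RatFunc.C α) < 1) :
    0 ≤ p.ord (RatFunc.X : RatFunc k) :=
  FF30.ord_X_nonneg_of_lt p (X_sub_C_ne_zero α) (by rwa [alg_X_sub_C])

theorem ord_X_sub_C_self {p : Place k (RatFunc k)} {α : k} (h : p.1 (RatFunc.X - RatFunc.C α) < 1) :
    p.ord (RatFunc.X - RatFunc.C α) = 1 := by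
  rw [← alg_X_sub_C] at h ⊢
  exact FF30.ord_irreducible p (irreducible_X_sub_C α) h

theorem place_at_unique {p p' : Place k (RatFunc k)} {α : k} (h : p.1 (RatFunc.X - RatFunc.C α) < 1)
    (h' : p'.1 (RatFunc.X - RatFunc.C α) < 1) : p = p' := by
  rw [← alg_X_sub_C] at h h'
  have hπ := irreducible_X_sub_C α
  refine FF30.place_eq_of_ord_poly fun g hg => ?_
  obtain ⟨m, u, rfl, hu⟩ := FF30.exists_pow_mul hπ hg
  have hu0 : ι u ≠ 0 := by simpa using right_ne_zero_of_mul hg
  have hm : ι ((X - C α) ^ m) ≠ 0 := (map_ne_zero_iff _ (RatFunc.algebraMap_injective k)).2 (left_ne_zero_of_mul hg)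
  rw [map_mul, FF30.ord_mul p hm hu0, FF30.ord_mul p' hm hu0, map_pow, FF30.ord_pow, FF30.ord_pow,
    FF30.ord_irreducible p hπ h, FF30.ord_irreducible p' hπ h', FF30.ord_poly_eq_zero p hπ h hu,
    FF30.ord_poly_eq_zero p' hπ h' hu]

theorem one_le_val_of_inf {p : Place k (RatFunc k)} (hX : p.ord (RatFunc.X : RatFunc k) < 0) (α : k) :
    1 ≤ p.1 (RatFunc.X - RatFunc.C α) :=
  not_lt.1 fun h => absurd hX (not_lt.2 (ord_X_nonneg_of_at h))

/-- `f` has a pole of odd order `d α` at each `α ∈ B` and is integral elsewhere. -/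
structure PoleData (f : RatFunc k) (B : Finset k) (d : k → ℕ) : Prop where
  odd : ∀ α ∈ B, Odd (d α)
  pole : ∀ (p : Place k (RatFunc k)) (α : k), α ∈ B →
    p.1 (RatFunc.X - RatFunc.C α) < 1 → p.ord f = -(d α : ℤ)
  int : ∀ p : Place k (RatFunc k), (∀ α ∈ B, 1 ≤ p.1 (RatFunc.X - RatFunc.C α)) → p.1 f ≤ 1

/-- The denominator of the regular forms. -/
noncomputable def qPoly (B : Finset k) (d : k → ℕ) : k[X] := ∏ α ∈ B, (X - C α) ^ ((d α + 1) / 2)

variable {f : RatFunc k} {B : Finset k} {d : k → ℕ}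

theorem qPoly_monic : (qPoly B d).Monic :=
  monic_prod_of_monic _ _ fun α _ => (monic_X_sub_C α).pow _

theorem natDegree_qPoly : (qPoly B d).natDegree = ∑ α ∈ B, (d α + 1) / 2 := by
  rw [qPoly, natDegree_prod_of_monic _ _ fun α _ => (monic_X_sub_C α).pow _]
  simp

theorem PoleData.at_of_pole (hP : PoleData f B d) {p : Place k (RatFunc k)} (h : p.ord f < 0) :
    ∃ α ∈ B, p.1 (RatFunc.X - RatFunc.C α) < 1 := by
  by_contra hno
  push Not at hno
  have := (FF30.val_le_one_iff p).1 (hP.int p hno)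
  omega

theorem PoleData.ord_odd (hP : PoleData f B d) (p : Place k (RatFunc k)) (h : p.ord f < 0) :
    Odd (p.ord f) := by
  obtain ⟨α, hα, hp⟩ := hP.at_of_pole h
  rw [hP.pole p α hα hp, odd_neg, Int.odd_coe_nat]
  exact hP.odd α hα

theorem PoleData.ord_neg (hP : PoleData f B d) {p : Place k (RatFunc k)} {α : k} (hα : α ∈ B)
    (h : p.1 (RatFunc.X - RatFunc.C α) < 1) : p.ord f < 0 := by
  rw [hP.pole p α hα h]
  obtain ⟨m, hm⟩ := hP.odd α hα
  omega

theorem PoleData.q_spec (hP : PoleData f B d) (p : Place k (RatFunc k)) (hX : p.1 RatFunc.X ≤ 1) :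
    p.ord (ι (qPoly B d)) = if 1 < p.1 f then (1 - p.ord f) / 2 else 0 := by
  classical
  by_cases h : ∃ α ∈ B, p.1 (RatFunc.X - RatFunc.C α) < 1
  · obtain ⟨α, hα, hp⟩ := h
    rw [if_pos ((FF30.one_lt_val_iff p).2 (hP.ord_neg hα hp)), hP.pole p α hα hp]
    have hv : p.1 (ι (qPoly B d)) = p.1 ((RatFunc.X - RatFunc.C α) ^ ((d α + 1) / 2)) := by
      rw [qPoly, map_prod, map_prod, Finset.prod_eq_single α]
      · rw [map_pow ι, alg_X_sub_C]
      · intro β _ hne
        rw [map_pow, map_pow, alg_X_sub_C, val_X_sub_C_of_ne hp hne, one_pow]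
      · exact fun hn => absurd hα hn
    rw [show p.ord (ι (qPoly B d)) = p.ord ((RatFunc.X - RatFunc.C α) ^ ((d α + 1) / 2)) by
      simp only [Place.ord, hv], FF30.ord_pow, ord_X_sub_C_self hp]
    obtain ⟨m, hm⟩ := hP.odd α hα
    omega
  · push Not at h
    rw [if_neg (not_lt.2 (hP.int p h))]
    have hX' := (FF30.val_le_one_iff p).1 hX
    have hv : p.1 (ι (qPoly B d)) = 1 := by
      rw [qPoly, map_prod, map_prod]
      refine Finset.prod_eq_one fun β hβ => ?_
      rw [map_pow, map_pow]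
      rw [le_antisymm (FF30.val_poly_le_one p hX' (X - C β)) (by rw [alg_X_sub_C]; exact h β hβ), one_pow]
    exact (FF30.val_eq_one_iff p (by simpa using qPoly_monic.ne_zero)).1 hv

theorem PoleData.ord_inf_nonneg (hP : PoleData f B d) {p : Place k (RatFunc k)}
    (hX : p.ord (RatFunc.X : RatFunc k) < 0) : 0 ≤ p.ord f :=
  (FF30.val_le_one_iff p).1 (hP.int p fun α _ => one_le_val_of_inf hX α)

variable [CharP k 2] {K : Type v} [Field K] [Algebra k K] [Algebra (RatFunc k) K]
  [IsScalarTower k (RatFunc k) K] {y : K}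

omit [CharP k 2] in
theorem algebraMap_X_sub_C (α : k) :
    algebraMap (RatFunc k) K (RatFunc.X - RatFunc.C α) =
      algebraMap (RatFunc k) K RatFunc.X - algebraMap k K α := by
  rw [map_sub, ← algebraMap_C', ← IsScalarTower.algebraMap_apply]

theorem PoleData.genus_succ (hP : PoleData f B d) (hK : IsFunctionField k K)
    (hdeg : Module.finrank (RatFunc k) K = 2) (hy : y ∉ Set.range (algebraMap (RatFunc k) K))
    (heq : y ^ 2 + y = algebraMap (RatFunc k) K f) : (qPoly B d).natDegree = genus k K + 1 := by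
  classical
  have h2 : ringChar k = 2 := ringChar.eq k 2
  obtain ⟨pinf, hX, -⟩ := FF30.exists_inf k
  have hff := FF30.ratFunc_ff k
  have h := FF30.genus_of_split hK hdeg hy _ (FF30.mem_L_as h2 hdeg hy heq hP.ord_odd)
  set n := (qPoly B d).natDegree
  have hordq : pinf.ord (ι (qPoly B d)) = -(n : ℤ) := by
    rw [FF30.ord_poly_inf pinf hX qPoly_monic.ne_zero, FF30.ord_inf pinf hX, mul_neg_one]
  have hE : FF30.asDiv f = -div k (ι (qPoly B d)) + Finsupp.single pinf (-(n : ℤ)) := by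
    ext P
    rw [Finsupp.add_apply, Finsupp.neg_apply, hff.div_apply, FF30.asDiv_apply]
    by_cases hP' : P = pinf
    · subst hP'
      rw [Finsupp.single_eq_same, hordq, if_neg (not_lt.2 (hP.ord_inf_nonneg hX))]
      ring
    · have hXP : 0 ≤ P.ord (RatFunc.X : RatFunc k) := not_lt.1 fun h => hP' (FF30.inf_unique h hX)
      rw [Finsupp.single_eq_of_ne hP', add_zero, hP.q_spec P ((FF30.val_le_one_iff P).2 hXP)]
      by_cases hneg : P.ord f < 0
      · rw [if_pos hneg, if_pos ((FF30.one_lt_val_iff P).2 hneg)]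
      · rw [if_neg hneg, if_neg fun h => hneg ((FF30.one_lt_val_iff P).1 h), neg_zero]
  rw [hE, FF30.deg_add, FF30.deg_neg, hff.deg_div, FF30.deg_single, FF30.deg_inf hX] at h
  omega

variable [Algebra.IsSeparable (RatFunc k) K]

/-- Above a pole the cover is wildly ramified. -/
theorem PoleData.above_pole (hP : PoleData f B d) (hdeg : Module.finrank (RatFunc k) K = 2)
    (hy : y ∉ Set.range (algebraMap (RatFunc k) K)) (heq : y ^ 2 + y = algebraMap (RatFunc k) K f)
    {Q : Place k K} {α : k} (hα : α ∈ B)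
    (hQ : Q.1 (algebraMap (RatFunc k) K RatFunc.X - algebraMap k K α) < 1) :
    ∃ p : Place k (RatFunc k), p.1 (RatFunc.X - RatFunc.C α) < 1 ∧ IsOverWith Q p 2 ∧
      (∀ Q' : Place k K, IsOver Q' p → Q' = Q) ∧ Q.ord y = -(d α : ℤ) := by
  have h2 : ringChar k = 2 := ringChar.eq k 2
  have := FF30.finite_of_finrank_two hdeg
  obtain ⟨p, e, hepos, he⟩ := (FF30.ratFunc_ff k).exists_isOverWith (K' := K) Q
  have hp : p.1 (RatFunc.X - RatFunc.C α) < 1 := by
    rw [← algebraMap_X_sub_C, he, pow_lt_one_iff_of_nonneg zero_le hepos.ne'] at hQ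
    exact hQ
  have hneg := hP.ord_neg hα hp
  obtain ⟨⟨Q₀, -, huniq⟩, hall⟩ := (FF30.as_ramification h2 hdeg hy heq p).1 ⟨hneg, hP.ord_odd p hneg⟩
  obtain rfl : e = 2 := (FF30.isOverWith_unique he (hall Q ⟨e, he⟩).1).2
  refine ⟨p, hp, he, fun Q' hQ' => (huniq Q' hQ').trans (huniq Q ⟨2, he⟩).symm, ?_⟩
  have hfK : Q.ord (algebraMap (RatFunc k) K f) = 2 * p.ord f := by
    rw [FF30.isOverWith_ord he]; norm_num
  have hyneg : Q.ord y < 0 := by
    by_contra hge
    have hy1 : Q.1 y ≤ 1 := (FF30.val_le_one_iff Q).mpr (not_lt.mp hge)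
    have h3 : Q.1 (y ^ 2 + y) ≤ 1 :=
      (Q.1.map_add _ _).trans (max_le (by rw [map_pow]; exact pow_le_one' hy1 2) hy1)
    rw [heq, FF30.val_le_one_iff, hfK] at h3
    omega
  have hy0 : y ≠ 0 := fun h0 => by rw [h0, FF30.ord_zero] at hyneg; omega
  have hsum : Q.1 (y ^ 2 + y) = Q.1 (y ^ 2) := Q.1.map_add_eq_of_lt_left (by
    rw [FF30.val_eq Q hy0, FF30.val_eq Q (pow_ne_zero 2 hy0), FF30.ord_pow, exp_lt_exp]
    push_cast
    omega)
  have h4 : Q.ord (y ^ 2 + y) = 2 * Q.ord y := by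
    rw [show Q.ord (y ^ 2 + y) = Q.ord (y ^ 2) by simp only [Place.ord, hsum], FF30.ord_pow]
    norm_num
  rw [heq, hfK] at h4
  rw [hP.pole p α hα hp] at h4
  omega

omit [Algebra.IsSeparable (RatFunc k) K] [CharP k 2] in
/-- `y` is integral where `f` is. -/
theorem val_y_le_one (heq : y ^ 2 + y = algebraMap (RatFunc k) K f) {Q : Place k K}
    {p : Place k (RatFunc k)} {e : ℕ} (he : IsOverWith Q p e) (hf : p.1 f ≤ 1) : Q.1 y ≤ 1 := by
  by_contra hgt
  rw [not_le] at hgt
  have h1 : Q.1 y < Q.1 (y ^ 2) := by rw [map_pow, sq]; exact lt_mul_of_one_lt_left (lt_trans one_pos hgt) hgt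
  have h2 : Q.1 (y ^ 2 + y) ≤ 1 := by rw [heq, he]; exact pow_le_one' hf e
  rw [Q.1.map_add_eq_of_lt_left h1] at h2
  exact absurd (h1.trans_le h2) (not_lt.2 hgt.le)

omit [Algebra.IsSeparable (RatFunc k) K] [CharP k 2] in
theorem lt_one_at_iff {Q : Place k K} {p : Place k (RatFunc k)} {e : ℕ} (he : IsOverWith Q p e) {α : k} :
    Q.1 (algebraMap (RatFunc k) K RatFunc.X - algebraMap k K α) < 1 ↔
      p.1 (RatFunc.X - RatFunc.C α) < 1 := by
  rw [← algebraMap_X_sub_C, he, pow_lt_one_iff_of_nonneg zero_le (FF30.isOverWith_pos he).ne']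

end Groth.Agent.Hyp31
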