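import Groth.Agent.FF30.QuadraticRat
import Groth.Agent.FF30.ArtinSchreier2
import Groth.Agent.Hyp31.Pole

/-! A function field of genus at least two has at most one quadratic map to the line. -/

namespace Groth.Agent.Hyp31

open FunFld WithZero Polynomial
open scoped IntermediateField

universe u v

variable {k : Type u} {K : Type v} [Field k] [Field K] [Algebra k K]

/-- `x` generates a rational subfield of index two, separable in characteristic two. -/
structure Double (x : K) : Prop where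
  rank : Module.finrank k⟮x⟯ K = 2
  sep : ringChar k = 2 → PerfectField k ∧ Algebra.IsSeparable k⟮x⟯ K

theorem transcendental_of_double (hK : IsFunctionField k K) {x : K} (hx : Module.finrank k⟮x⟯ K = 2) :
    Transcendental k x := by
  intro h
  obtain ⟨c, hc⟩ := hK.2 x h
  have hbot : k⟮x⟯ = ⊥ := IntermediateField.adjoin_simple_eq_bot_iff.2 (IntermediateField.mem_bot.2 ⟨c, hc⟩)
  rw [hbot, IntermediateField.finrank_bot'] at hx
  have hfin : FiniteDimensional k K := Module.finite_of_finrank_pos (by omega)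
  obtain ⟨⟨z, hz, -⟩, -⟩ := hK
  exact hz (Algebra.IsAlgebraic.isAlgebraic z)

/-- A subspace `w • {a(x) : deg a < g}` is the space of a canonical divisor. -/
theorem exists_canonical_space (hK : IsFunctionField k K) (hg : 1 ≤ genus k K) {W : Divisor k K}
    (hW : IsCanonical k K W) {x : K} (hx : Double (k := k) x) :
    ∃ w : K, w ≠ 0 ∧ ∀ z : K, z ∈ L W ↔
      ∃ a : k[X], a.degree < (genus k K : WithBot ℕ) ∧ z = w * aeval x a := by
  classical
  have htr := transcendental_of_double hK hx.rank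
  let e := RatFunc.algEquivOfTranscendental x htr
  let φ : RatFunc k →ₐ[k] K := k⟮x⟯.val.comp e.toAlgHom
  let _ : Algebra (RatFunc k) K := φ.toRingHom.toAlgebra
  have : IsScalarTower k (RatFunc k) K := IsScalarTower.of_algebraMap_eq fun c => (φ.commutes c).symm
  have hcompat : RingHom.comp (algebraMap k⟮x⟯ K) e.toRingEquiv.toRingHom =
      RingHom.comp (RingEquiv.refl K).toRingHom (algebraMap (RatFunc k) K) := rfl
  have hdeg : Module.finrank (RatFunc k) K = 2 := by
    rw [Algebra.finrank_eq_of_equiv_equiv e.toRingEquiv (RingEquiv.refl K) hcompat, hx.rank]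
  have hφX : algebraMap (RatFunc k) K RatFunc.X = x := RatFunc.algEquivOfTranscendental_X x htr
  -- the splitting
  obtain ⟨y, E, hy, hE, hsplit⟩ : ∃ (y : K) (E : Divisor k (RatFunc k)), y ∉ Set.range (algebraMap (RatFunc k) K) ∧
      (genus k K : ℤ) = -1 - E.deg ∧ ∀ (A : Divisor k (RatFunc k)) (u v : RatFunc k),
      algebraMap (RatFunc k) K u + algebraMap (RatFunc k) K v * y ∈ L (conorm K A) ↔
        u ∈ L A ∧ v ∈ L (A + E) := by
    have hnotmem : ∀ y : K, IntermediateField.adjoin (RatFunc k) ({y} : Set K) = ⊤ →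
        y ∉ Set.range (algebraMap (RatFunc k) K) := by
      rintro y htop ⟨r, hr⟩
      have hbot : (⊥ : IntermediateField (RatFunc k) K) = ⊤ := by
        rw [← htop, ← hr]
        exact (IntermediateField.adjoin_simple_eq_bot_iff.mpr (IntermediateField.algebraMap_mem _ r)).symm
      have := IntermediateField.bot_eq_top_iff_finrank_eq_one.mp hbot
      omega
    by_cases h2 : ringChar k = 2
    · obtain ⟨hperf, hsep⟩ := hx.sep h2
      have : Algebra.IsSeparable (RatFunc k) K :=
        Algebra.IsSeparable.of_equiv_equiv e.symm.toRingEquiv (RingEquiv.refl K) (by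
          ext z
          exact congrArg (fun t : k⟮x⟯ => (t : K)) (e.apply_symm_apply z))
      obtain ⟨y, f, heq, htop, hodd⟩ := FF30.exists_odd_poles (K := K) h2 hdeg
      have hy := hnotmem y htop
      exact ⟨y, _, hy, FF30.genus_of_split hK hdeg hy _ (FF30.mem_L_as h2 hdeg hy heq hodd),
        FF30.mem_L_as h2 hdeg hy heq hodd⟩
    · obtain ⟨y, f, hf, heq, htop⟩ := FF30.exists_sq_eq (K := K) h2 hdeg
      have hy := hnotmem y htop
      have hd : 1 ≤ f.natDegree := by
        by_contra hd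
        obtain ⟨c, rfl⟩ := natDegree_eq_zero.1 (by omega : f.natDegree = 0)
        rw [RatFunc.algebraMap_C, ← algebraMap_C', ← IsScalarTower.algebraMap_apply k (RatFunc k) K] at heq
        obtain ⟨b, hb⟩ := hK.2 y ⟨X ^ 2 - C c, X_pow_sub_C_ne_zero two_pos c, by simp [heq]⟩
        exact hy ⟨algebraMap k (RatFunc k) b, by rw [← IsScalarTower.algebraMap_apply, hb]⟩
      exact ⟨y, _, hy, FF30.genus_of_split hK hdeg hy _ (FF30.mem_L_hyper h2 hdeg hf hd heq),
        FF30.mem_L_hyper h2 hdeg hf hd heq⟩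
  have := FF30.finite_of_finrank_two hdeg
  have hff := FF30.ratFunc_ff k
  obtain ⟨pinf, hinf, -⟩ := FF30.exists_inf k
  set g := genus k K
  set A : Divisor k (RatFunc k) := Finsupp.single pinf ((g : ℤ) - 1)
  have hAdeg : A.deg = (g : ℤ) - 1 := by rw [FF30.deg_single, FF30.deg_inf hinf]; simp
  set C := conorm K A
  have hCdeg : C.deg = 2 * (g : ℤ) - 2 := by rw [hff.deg_conorm, hdeg, hAdeg]; ring
  have hmem : ∀ z : K, z ∈ L C ↔ ∃ a : k[X], a.degree < (g : WithBot ℕ) ∧ z = aeval x a := by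
    intro z
    obtain ⟨u, v, rfl⟩ := FF30.exists_repr_quadratic hdeg hy z
    have hv : v ∈ L (A + E) ↔ v = 0 := by
      rw [hff.L_eq_bot_of_deg_neg (D := A + E) (by rw [FF30.deg_add, hAdeg]; omega), Submodule.mem_bot]
    rw [hsplit, mem_L_inf_iff hinf g u, hv]
    constructor
    · rintro ⟨⟨a, ha, rfl⟩, rfl⟩
      exact ⟨a, ha, by rw [map_zero, zero_mul, add_zero, algebraMap_poly, hφX]⟩
    · rintro ⟨a, ha, h⟩
      rw [← hφX, ← algebraMap_poly] at h
      have h' : algebraMap (RatFunc k) K u + algebraMap (RatFunc k) K v * y =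
          algebraMap (RatFunc k) K (algebraMap k[X] (RatFunc k) a) + algebraMap (RatFunc k) K 0 * y := by
        rw [map_zero, zero_mul, add_zero]; exact h
      obtain ⟨hu, hv⟩ := FF30.repr_unique hy h'
      exact ⟨⟨a, ha, hu⟩, hv⟩
  let T : k[X] →ₗ[k] K := (aeval x : k[X] →ₐ[k] K).toLinearMap
  have hLC : L C = (degreeLT k g).map T := by
    ext z
    rw [hmem, Submodule.mem_map]
    exact ⟨fun ⟨a, ha, h⟩ => ⟨a, mem_degreeLT.2 ha, h.symm⟩, fun ⟨a, ha, h⟩ => ⟨a, mem_degreeLT.1 ha, h.symm⟩⟩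
  have hellC : Module.finrank k (L C) = g := by
    rw [hLC, ← (Submodule.equivMapOfInjective T (transcendental_iff_injective.1 htr) _).finrank_eq,
      (degreeLTEquiv k g).finrank_eq, Module.finrank_fin_fun]
  have hone : 0 < ell (W - C) := by
    have h := FF30.riemann_roch' hK hW C
    rw [ell, hellC, hCdeg] at h
    omega
  obtain ⟨w, hw, hw0⟩ := FF30.exists_ne_zero_of_ell_pos hone
  have hmaps : (L C).map (LinearMap.mulLeft k w) ≤ L W := by
    rintro _ ⟨z, hz, rfl⟩
    rw [FF30.mem_L] at hw ⊢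
    intro P
    change P.1 (w * z) ≤ _
    rw [map_mul]
    refine (mul_le_mul' (hw P) (FF30.mem_L.1 hz P)).trans_eq ?_
    rw [← exp_add, Finsupp.sub_apply, sub_add_cancel]
  have hfinW := FF30.FF.finite_L hK.1 W
  have heqW : (L C).map (LinearMap.mulLeft k w) = L W := by
    refine Submodule.eq_of_le_of_finrank_eq hmaps ?_
    rw [← (Submodule.equivMapOfInjective (LinearMap.mulLeft k w) (mul_right_injective₀ hw0) (L C)).finrank_eq, hellC]
    exact (FF30.ell_canonical hK hW).symm
  refine ⟨w, hw0, fun z => ?_⟩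
  rw [← heqW, Submodule.mem_map]
  constructor
  · rintro ⟨z', hz', rfl⟩
    obtain ⟨a, ha, rfl⟩ := (hmem z').1 hz'
    exact ⟨a, ha, rfl⟩
  · rintro ⟨a, ha, rfl⟩
    exact ⟨_, (hmem _).2 ⟨a, ha, rfl⟩, rfl⟩

theorem double_le (hK : IsFunctionField k K) (hg : 2 ≤ genus k K) {x x' : K} (hx : Double (k := k) x)
    (hx' : Double (k := k) x') : x' ∈ k⟮x⟯ := by
  obtain ⟨W, hW⟩ := FF30.exists_isCanonical hK
  obtain ⟨w, hw0, hw⟩ := exists_canonical_space hK (by omega) hW hx
  obtain ⟨w', hw0', hw'⟩ := exists_canonical_space hK (by omega) hW hx'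
  obtain ⟨a, -, ha⟩ := (hw w').1 ((hw' w').2 ⟨1, by
    rw [degree_one]; exact_mod_cast (by omega : 0 < genus k K), by rw [map_one, mul_one]⟩)
  obtain ⟨b, -, hb⟩ := (hw (w' * x')).1 ((hw' _).2 ⟨X, by
    rw [degree_X]; exact_mod_cast (by omega : 1 < genus k K), by rw [aeval_X]⟩)
  have ha0 : aeval x a ≠ 0 := fun h => hw0' (by rw [ha, h, mul_zero])
  have heq : x' = aeval x b / aeval x a := by
    rw [eq_div_iff ha0]
    refine mul_left_cancel₀ hw0 ?_
    rw [← hb, ha]
    ring
  rw [heq]
  have hmem : ∀ p : k[X], aeval x p ∈ k⟮x⟯ := fun p =>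
    IntermediateField.algebra_adjoin_le_adjoin k _ (aeval_mem_adjoin_singleton k x)
  exact div_mem (hmem b) (hmem a)

theorem double_unique (hK : IsFunctionField k K) (hg : 2 ≤ genus k K) {x x' : K} (hx : Double (k := k) x)
    (hx' : Double (k := k) x') : k⟮x⟯ = k⟮x'⟯ :=
  le_antisymm (IntermediateField.adjoin_simple_le_iff.2 (double_le hK hg hx' hx))
    (IntermediateField.adjoin_simple_le_iff.2 (double_le hK hg hx hx'))

end Groth.Agent.Hyp31
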