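import Groth.Agent.Hyp31.Regular
import Groth.Agent.FF30.ArtinSchreier2

/-! Regular forms of an Artin–Schreier double cover of the line in characteristic two. -/

namespace Groth.Agent.Hyp31

open FunFld WithZero Polynomial
open scoped LaurentSeries

universe u v w

variable {k : Type u} {K : Type v} [Field k] [Field K] [Algebra k K] [Algebra (RatFunc k) K]
  [IsScalarTower k (RatFunc k) K] [Algebra.IsSeparable (RatFunc k) K] {y : K} {f : RatFunc k}
  {F' : Type w} [Field F'] [Algebra k F'] {Q : Place k K} {ψ : K →ₐ[k] F'⸨X⸩}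

local notation "ι" => algebraMap (Polynomial k) (RatFunc k)

omit [Algebra.IsSeparable (RatFunc k) K] in
/-- The differential of a parameter below a wild place. -/
theorem val_D_param_of_pole (h2 : ringChar k = 2) (hψ : LocRes.IsExpansionAt Q.1 ψ)
    {p : Place k (RatFunc k)} (he : IsOverWith Q p 2) (heq : y ^ 2 + y = algebraMap (RatFunc k) K f)
    (hneg : p.ord f < 0) (hodd : Odd (p.ord f)) {τ : RatFunc k} (hτ : p.1 τ = exp (-1))
    (hE : Valued.v (LocRes.D F' (ψ (algebraMap (RatFunc k) K τ))) ≠ 0)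
    (hle : ∀ u : RatFunc k, p.1 u ≤ 1 → Valued.v (LocRes.D F' (ψ (algebraMap (RatFunc k) K u))) ≤
      Valued.v (LocRes.D F' (ψ (algebraMap (RatFunc k) K τ)))) :
    Valued.v (LocRes.D F' (ψ (algebraMap (RatFunc k) K τ))) = exp (p.ord f - 1) := by
  have := FF30.charP_two h2
  have : CharP F' 2 := charP_of_injective_algebraMap (algebraMap k F').injective 2
  have hc2 : (2 : F'⸨X⸩) = 0 := by
    rw [← map_ofNat (algebraMap F' F'⸨X⸩) 2, CharTwo.two_eq_zero, map_zero]
  set n := p.ord f with hn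
  set E := Valued.v (LocRes.D F' (ψ (algebraMap (RatFunc k) K τ))) with hEdef
  have hn1 : (n : F') = 1 := by
    obtain ⟨m, hm⟩ := hodd
    rw [hm]
    push_cast
    rw [CharTwo.two_eq_zero, zero_mul, zero_add]
  have hf0 : f ≠ 0 := fun h => by rw [hn, h, FF30.ord_zero] at hneg; omega
  have hτ0 : τ ≠ 0 := fun h => by rw [h, map_zero] at hτ; exact exp_ne_zero hτ.symm
  have hτord : p.ord τ = 1 := by rw [FF30.ord_eq_of_val_eq p hτ, neg_neg]
  have hfK : Q.ord (algebraMap (RatFunc k) K f) = 2 * n := by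
    rw [FF30.isOverWith_ord he, hn]; norm_num
  have hyord : Q.ord y = n := by
    have hyneg : Q.ord y < 0 := by
      by_contra hge
      have hy1 : Q.1 y ≤ 1 := (FF30.val_le_one_iff Q).mpr (not_lt.mp hge)
      have h3 : Q.1 (y ^ 2 + y) ≤ 1 :=
        (Q.1.map_add _ _).trans (max_le (by rw [map_pow]; exact pow_le_one' hy1 2) hy1)
      rw [heq, FF30.val_le_one_iff, hfK] at h3
      omega
    have hy0 : y ≠ 0 := fun h0 => by rw [h0, FF30.ord_zero] at hyneg; omega
    have hsum : Q.1 (y ^ 2 + y) = Q.1 (y ^ 2) := Q.1.map_add_eq_of_lt_left (by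
      rw [FF30.val_eq Q hy0, FF30.val_eq Q (pow_ne_zero 2 hy0), FF30.ord_pow, exp_lt_exp]
      push_cast
      omega)
    have h4 : Q.ord (y ^ 2 + y) = 2 * Q.ord y := by
      rw [show Q.ord (y ^ 2 + y) = Q.ord (y ^ 2) by simp only [Place.ord, hsum], FF30.ord_pow]
      norm_num
    rw [heq, hfK] at h4
    omega
  have hy0 : y ≠ 0 := fun h0 => by rw [h0, FF30.ord_zero] at hyord; omega
  set u := f / τ ^ n with hu
  have hu1 : p.1 u = 1 := by
    rw [FF30.val_eq_one_iff p (div_ne_zero hf0 (zpow_ne_zero _ hτ0)),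
      FF30.ord_div p hf0 (zpow_ne_zero _ hτ0), FF30.ord_zpow, hτord]
    omega
  have hfu : f = τ ^ n * u := by rw [hu, mul_div_cancel₀ _ (zpow_ne_zero _ hτ0)]
  set T := ψ (algebraMap (RatFunc k) K τ) with hT
  set U := ψ (algebraMap (RatFunc k) K u) with hU
  have hvT : Valued.v T = exp (-2 : ℤ) := by
    rw [hT, hψ.1, he, hτ, ← exp_nsmul]; rfl
  have hvU : Valued.v U = 1 := by rw [hU, hψ.1, he, hu1, one_pow]
  have h1 : Valued.v (U * LocRes.D F' (T ^ n)) = exp (-2 * (n - 1)) * E := by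
    have hnc : Valued.v (n : F'⸨X⸩) = 1 := by
      obtain ⟨m, hm⟩ := hodd
      rw [hm]
      push_cast
      rw [hc2, zero_mul, zero_add, map_one]
    rw [Derivation.leibniz_zpow, zsmul_eq_mul, smul_eq_mul, map_mul, map_mul, map_mul, map_zpow₀, hvU,
      one_mul, hnc, one_mul, hvT, ← exp_zsmul, ← hEdef, smul_eq_mul]
    congr 2
    ring
  have hsum : LocRes.D F' (ψ y) = U * LocRes.D F' (T ^ n) + T ^ n * LocRes.D F' U := by
    have h := congrArg (fun z => LocRes.D F' (ψ z)) heq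
    simp only [hfu, map_mul, map_zpow₀, map_add, map_pow, Derivation.leibniz, Derivation.leibniz_pow,
      smul_eq_mul, nsmul_eq_mul, pow_one, Nat.cast_ofNat, hc2, zero_mul, zero_add] at h
    rw [h, ← hT, ← hU]
    ring
  have h2' : Valued.v (T ^ n * LocRes.D F' U) < Valued.v (U * LocRes.D F' (T ^ n)) := by
    rw [h1, map_mul, map_zpow₀, hvT, ← exp_zsmul]
    refine lt_of_le_of_lt (mul_le_mul' le_rfl (hle u hu1.le)) ?_
    refine mul_lt_mul_of_pos_right (exp_lt_exp.2 ?_) (zero_lt_iff.2 hE)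
    rw [smul_eq_mul]
    omega
  have hDy : Valued.v (LocRes.D F' (ψ y)) = exp (-(n - 1)) :=
    Exp31.val_D_eq (by rw [hψ.1, FF30.val_eq Q hy0, hyord]) (by rw [hn1]; exact one_ne_zero)
  rw [hsum, Valuation.map_add_eq_of_lt_left _ h2', h1] at hDy
  rw [← mul_right_inj' (exp_ne_zero (a := -2 * (n - 1))), hDy, ← exp_add]
  congr 1
  ring

theorem as_hval (hK : IsFunctionField k K) (h2 : ringChar k = 2) (hdeg : Module.finrank (RatFunc k) K = 2)
    (hy : y ∉ Set.range (algebraMap (RatFunc k) K)) (heq : y ^ 2 + y = algebraMap (RatFunc k) K f)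
    (hodd : ∀ p : Place k (RatFunc k), p.ord f < 0 → Odd (p.ord f)) {q : k[X]} (hq0 : q ≠ 0)
    (hq : ∀ p : Place k (RatFunc k), p.1 RatFunc.X ≤ 1 →
      p.ord (ι q) = if 1 < p.1 f then (1 - p.ord f) / 2 else 0)
    (hψ : LocRes.IsExpansionAt Q.1 ψ) {p : Place k (RatFunc k)} {e : ℕ} (he : IsOverWith Q p e) :
    Valued.v (LocRes.D F' (ψ (algebraMap (RatFunc k) K RatFunc.X))) * Q.1 (algebraMap (RatFunc k) K (ι q))⁻¹ =
      if p.ord (RatFunc.X : RatFunc k) < 0 then exp (-(e : ℤ) * ((genus k K : ℤ) - 1)) else 1 := by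
  classical
  have := FF30.finite_of_finrank_two hdeg
  have := FF30.charP_two h2
  have hff := FF30.ratFunc_ff k
  have hq0' : ι q ≠ 0 := by simpa using hq0
  obtain ⟨hram, hunram⟩ := FF30.as_ramification h2 hdeg hy heq p
  have hQq : Q.1 (algebraMap (RatFunc k) K (ι q))⁻¹ = exp ((e : ℤ) * p.ord (ι q)) := by
    rw [map_inv₀, FF30.val_eq Q ((_root_.map_ne_zero _).2 hq0'), ← exp_neg, FF30.isOverWith_ord he, neg_neg]
  have hdx := vDiff_dx_ne_zero (k := k) (K := K) hψ
  rw [hQq]
  by_cases hX : p.ord (RatFunc.X : RatFunc k) < 0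
  · rw [if_pos hX]
    have hordq : p.ord (ι q) = -(q.natDegree : ℤ) := by
      rw [FF30.ord_poly_inf p hX hq0, FF30.ord_inf p hX, mul_neg_one]
    -- the genus
    have hgen : (genus k K : ℤ) = -1 + q.natDegree + if p.ord f < 0 then (1 - p.ord f) / 2 else 0 := by
      rw [FF30.genus_of_split hK hdeg hy _ (FF30.mem_L_as h2 hdeg hy heq hodd)]
      set c : ℤ := (if p.ord f < 0 then -((1 - p.ord f) / 2) else 0) - q.natDegree
      have hE : FF30.asDiv f = -div k (ι q) + Finsupp.single p c := by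
        ext P
        rw [Finsupp.add_apply, Finsupp.neg_apply, hff.div_apply, FF30.asDiv_apply]
        by_cases hP : P = p
        · subst hP
          rw [Finsupp.single_eq_same, hordq]
          ring
        · have hXP : 0 ≤ P.ord (RatFunc.X : RatFunc k) := not_lt.1 fun h => hP (FF30.inf_unique h hX)
          rw [Finsupp.single_eq_of_ne hP, add_zero, hq P ((FF30.val_le_one_iff P).2 hXP)]
          by_cases hneg : P.ord f < 0
          · rw [if_pos hneg, if_pos ((FF30.one_lt_val_iff P).2 hneg)]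
          · rw [if_neg hneg, if_neg fun h => hneg ((FF30.one_lt_val_iff P).1 h), neg_zero]
      rw [hE, FF30.deg_add, FF30.deg_neg, hff.deg_div, FF30.deg_single, FF30.deg_inf hX]
      simp only [c]
      split_ifs <;> ring
    have hx : p.1 (RatFunc.X : RatFunc k) = exp 1 := by
      rw [FF30.val_eq p RatFunc.X_ne_zero, FF30.ord_inf p hX, neg_neg]
    have hτ : p.1 (RatFunc.X⁻¹ : RatFunc k) = exp (-1) := by rw [map_inv₀, hx, exp_neg]
    rw [hordq, hgen]
    by_cases hneg : p.ord f < 0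
    · obtain rfl : e = 2 := (FF30.isOverWith_unique he ((hram ⟨hneg, hodd p hneg⟩).2 Q ⟨e, he⟩).1).2
      have hτE : Valued.v (LocRes.D F' (ψ (algebraMap (RatFunc k) K (RatFunc.X⁻¹)))) ≠ 0 := by
        intro h0
        rw [val_D_X_inv hψ, h0, mul_zero] at hdx
        exact hdx rfl
      have hle : ∀ u : RatFunc k, p.1 u ≤ 1 → Valued.v (LocRes.D F' (ψ (algebraMap (RatFunc k) K u))) ≤
          Valued.v (LocRes.D F' (ψ (algebraMap (RatFunc k) K (RatFunc.X⁻¹)))) := fun u hu => by
        refine Diff31.val_D_le_of_gen hψ he (a₀ := (0 : RatFunc k)) (by simp) (p := Polynomial.X)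
          (by simp) (by simp) (fun w hw => ?_) hτ hτE le_rfl hu
        obtain ⟨c, hc⟩ := exists_const_sub_lt hX hw
        exact ⟨Polynomial.C c, by rwa [Polynomial.aeval_C]⟩
      rw [if_pos hneg, val_D_X_inv hψ, val_D_param_of_pole h2 hψ he heq hneg (hodd p hneg) hτ hτE hle,
        he, hx, ← exp_nsmul, ← exp_nsmul, ← exp_add, ← exp_add]
      congr 1
      obtain ⟨m, hm⟩ := hodd p hneg
      simp only [nsmul_eq_mul]
      push_cast
      omega
    · obtain rfl : e = 1 := (FF30.isOverWith_unique he (hunram (not_lt.1 hneg) Q ⟨e, he⟩)).2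
      rw [if_neg hneg, val_D_X_infinite hψ he hX (by simp), ← exp_add]
      congr 1
      push_cast
      ring
  · rw [if_neg hX]
    rw [not_lt] at hX
    obtain ⟨π, hπ, hp⟩ := FF30.exists_irreducible_of_finite p hX
    rw [hq p ((FF30.val_le_one_iff p).2 hX)]
    by_cases hneg : p.ord f < 0
    · obtain rfl : e = 2 := (FF30.isOverWith_unique he ((hram ⟨hneg, hodd p hneg⟩).2 Q ⟨e, he⟩).1).2
      have hπ1 : p.1 (ι π) = exp (-1) := by
        rw [FF30.val_eq p (by simpa using hπ.ne_zero), FF30.ord_irreducible p hπ hp]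
      have hDπ := val_D_prime hψ he hπ hp
      rw [if_pos ((FF30.one_lt_val_iff p).2 hneg), ← hDπ,
        val_D_param_of_pole h2 hψ he heq hneg (hodd p hneg) hπ1 (hDπ ▸ hdx)
          (fun u hu => hDπ ▸ val_D_le_rat hψ he hπ hp hu), ← exp_add, ← exp_zero]
      congr 1
      obtain ⟨m, hm⟩ := hodd p hneg
      push_cast
      omega
    · obtain rfl : e = 1 := (FF30.isOverWith_unique he (hunram (not_lt.1 hneg) Q ⟨e, he⟩)).2
      rw [if_neg fun h => hneg ((FF30.one_lt_val_iff p).1 h), val_D_X_finite hψ he hX (by simp),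
        ← exp_add, ← exp_zero]
      congr 1

/-- The regular forms are the `a(x) dx / q(x)`, `deg a < g`. -/
theorem as_regular_iff (hK : IsFunctionField k K) (h2 : ringChar k = 2)
    (hdeg : Module.finrank (RatFunc k) K = 2)
    (hy : y ∉ Set.range (algebraMap (RatFunc k) K)) (heq : y ^ 2 + y = algebraMap (RatFunc k) K f)
    (hodd : ∀ p : Place k (RatFunc k), p.ord f < 0 → Odd (p.ord f)) {q : k[X]} (hq0 : q ≠ 0)
    (hq : ∀ p : Place k (RatFunc k), p.1 RatFunc.X ≤ 1 →
      p.ord (ι q) = if 1 < p.1 f then (1 - p.ord f) / 2 else 0)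
    {F : Place k K → Type w} [∀ P, Field (F P)] [∀ P, Algebra k (F P)]
    {φ : ∀ P, K →ₐ[k] (F P)⸨X⸩} (hφ : ∀ P, LocRes.IsExpansionAt P.1 (φ P)) (z : K) :
    (∀ P, LocRes.vDiff (φ P) z (algebraMap (RatFunc k) K RatFunc.X) ≤ 1) ↔
      ∃ a : k[X], a.degree < (genus k K : WithBot ℕ) ∧ z = algebraMap (RatFunc k) K (ι a / ι q) := by
  simp only [div_eq_mul_inv, map_mul, map_inv₀]
  refine regular_iff_of_split hdeg hy (FF30.mem_L_as h2 hdeg hy heq hodd)
    (FF30.genus_of_split hK hdeg hy _ (FF30.mem_L_as h2 hdeg hy heq hodd)) hφ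
    (inv_ne_zero ((_root_.map_ne_zero _).2 (by simpa using hq0)))
    (fun Q p e he => as_hval hK h2 hdeg hy heq hodd hq0 hq (hφ Q) he) z

end Groth.Agent.Hyp31
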