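import Groth.Agent.Hyp31.PartialFrac

/-! Repartition classes of an Artin–Schreier double cover. -/

namespace Groth.Agent.Hyp31

open FunFld WithZero Polynomial

universe u v

open Classical in
theorem single_mem_adele {k : Type*} [Field k] {K : Type*} [Field K] [Algebra k K] (Q : Place k K) (z : K) : (Pi.single Q z : Place k K → K) ∈ adele k K := by
  refine Filter.Eventually.mono (Set.finite_singleton Q).compl_mem_cofinite fun P hP => ?_
  rw [Pi.single_eq_of_ne (Set.mem_compl_singleton_iff.1 hP), map_zero]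
  exact zero_le

variable {k : Type u} [Field k] [CharP k 2] {K : Type v} [Field K] [Algebra k K] [Algebra (RatFunc k) K]
  [IsScalarTower k (RatFunc k) K] [Algebra.IsSeparable (RatFunc k) K] {y : K} {f : RatFunc k} {B : Finset k}
  {d : k → ℕ}

local notation "ι" => algebraMap (Polynomial k) (RatFunc k)

omit [CharP k 2] [Algebra.IsSeparable (RatFunc k) K] in
theorem y_ne_zero (hy : y ∉ Set.range (algebraMap (RatFunc k) K)) : y ≠ 0 :=
  fun h => hy ⟨0, by rw [map_zero, h]⟩

omit [CharP k 2] [Algebra.IsSeparable (RatFunc k) K] [IsScalarTower k (RatFunc k) K] in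
theorem one_lt_X_iff {Q : Place k K} {p : Place k (RatFunc k)} {e : ℕ} (he : IsOverWith Q p e) :
    1 < Q.1 (algebraMap (RatFunc k) K RatFunc.X) ↔ p.ord (RatFunc.X : RatFunc k) < 0 := by
  rw [← not_le, FF30.isOverWith_le_one_iff he, FF30.val_le_one_iff, not_le]

/-- At infinity: unramified, and `x - α` has a simple pole. -/
theorem PoleData.above_inf (hP : PoleData f B d) (hdeg : Module.finrank (RatFunc k) K = 2)
    (hy : y ∉ Set.range (algebraMap (RatFunc k) K)) (heq : y ^ 2 + y = algebraMap (RatFunc k) K f)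
    {Q : Place k K} (hQ : 1 < Q.1 (algebraMap (RatFunc k) K RatFunc.X)) :
    ∃ p : Place k (RatFunc k), p.ord (RatFunc.X : RatFunc k) < 0 ∧ IsOverWith Q p 1 ∧ 0 ≤ Q.ord y ∧
      ∀ α : k, Q.ord (algebraMap (RatFunc k) K RatFunc.X - algebraMap k K α) = -1 := by
  have := FF30.finite_of_finrank_two hdeg
  obtain ⟨p, e, -, he⟩ := (FF30.ratFunc_ff k).exists_isOverWith (K' := K) Q
  have hX := (one_lt_X_iff he).1 hQ
  obtain rfl : e = 1 := (FF30.isOverWith_unique he
    ((FF30.as_ramification (ringChar.eq k 2) hdeg hy heq p).2 (hP.ord_inf_nonneg hX) Q ⟨e, he⟩)).2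
  refine ⟨p, hX, he, (FF30.val_le_one_iff Q).1
    (val_y_le_one heq he ((FF30.val_le_one_iff p).2 (hP.ord_inf_nonneg hX))), fun α => ?_⟩
  rw [← algebraMap_X_sub_C, FF30.isOverWith_ord he, ← alg_X_sub_C,
    FF30.ord_poly_inf p hX (X_sub_C_ne_zero α), natDegree_X_sub_C, FF30.ord_inf p hX]
  norm_num

/-- Some place at infinity has `ord y = 0`. -/
theorem PoleData.exists_inf_ord_zero (hP : PoleData f B d) (hdeg : Module.finrank (RatFunc k) K = 2)
    (hy : y ∉ Set.range (algebraMap (RatFunc k) K)) (heq : y ^ 2 + y = algebraMap (RatFunc k) K f) :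
    ∃ Q : Place k K, 1 < Q.1 (algebraMap (RatFunc k) K RatFunc.X) ∧ Q.ord y = 0 := by
  have := FF30.finite_of_finrank_two hdeg
  have hc : CharP K 2 := FF30.charP_two_top (ringChar.eq k 2)
  obtain ⟨p, hX, -⟩ := FF30.exists_inf k
  by_contra hno
  push Not at hno
  set x := algebraMap (RatFunc k) K RatFunc.X
  have hx0 : x ≠ 0 := (_root_.map_ne_zero _).2 RatFunc.X_ne_zero
  have hw : x * y ∉ Set.range (algebraMap (RatFunc k) K) := by
    rintro ⟨r, hr⟩
    exact hy ⟨r / RatFunc.X, by rw [map_div₀, hr, mul_div_cancel_left₀ _ hx0]⟩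
  have hrel : (x * y) ^ 2 - algebraMap (RatFunc k) K (-RatFunc.X) * (x * y) +
      algebraMap (RatFunc k) K (-(f * RatFunc.X ^ 2)) = 0 := by
    rw [map_neg, map_neg, map_mul, map_pow, ← heq]
    ring
  have h := ((FF30.ratFunc_ff k).quadratic_regular hdeg p hw hrel).1 fun Q ⟨e, he⟩ => by
    have hQ : 1 < Q.1 x := (one_lt_X_iff he).2 hX
    obtain ⟨p', -, he', hy1, hα⟩ := hP.above_inf hdeg hy heq hQ
    have hxord : Q.ord x = -1 := by simpa using hα 0
    have hne := hno Q hQ
    rw [FF30.val_le_one_iff, FF30.ord_mul Q hx0 (y_ne_zero hy), hxord]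
    omega
  have h1 := (FF30.val_le_one_iff p).1 h.1
  rw [FF30.ord_neg, FF30.ord_inf p hX] at h1
  omega

/-- Above a pole, `x - α` has a double zero. -/
theorem PoleData.ord_X_sub_C (hP : PoleData f B d) (hdeg : Module.finrank (RatFunc k) K = 2)
    (hy : y ∉ Set.range (algebraMap (RatFunc k) K)) (heq : y ^ 2 + y = algebraMap (RatFunc k) K f)
    {Q : Place k K} {α : k} (hα : α ∈ B)
    (hQ : Q.1 (algebraMap (RatFunc k) K RatFunc.X - algebraMap k K α) < 1) :
    Q.ord (algebraMap (RatFunc k) K RatFunc.X - algebraMap k K α) = 2 ∧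
      ∀ β : k, β ≠ α → Q.ord (algebraMap (RatFunc k) K RatFunc.X - algebraMap k K β) = 0 := by
  obtain ⟨p, hp, he, -, -⟩ := hP.above_pole hdeg hy heq hα hQ
  refine ⟨?_, fun β hne => ?_⟩
  · rw [← algebraMap_X_sub_C, FF30.isOverWith_ord he, ord_X_sub_C_self hp]; norm_num
  · rw [← algebraMap_X_sub_C, FF30.isOverWith_ord he, show p.ord (RatFunc.X - RatFunc.C β : RatFunc k) = 0 by
      simp only [Place.ord, val_X_sub_C_of_ne hp hne, WithZero.log_one, neg_zero]]
    simp

omit [CharP k 2] [Algebra.IsSeparable (RatFunc k) K] in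
open Classical in
/-- On a line the classes of repartitions are trivial; pulled back to `K` at a place alone in its fibre. -/
theorem single_algebraMap_mem (hdeg : Module.finrank (RatFunc k) K = 2) {Q : Place k K} {p : Place k (RatFunc k)}
    {e : ℕ} (he : IsOverWith Q p e) (huniq : ∀ Q' : Place k K, IsOver Q' p → Q' = Q) (r : RatFunc k) :
    (Pi.single Q (algebraMap (RatFunc k) K r) : Place k K → K) ∈
      AD (0 : Divisor k K) ⊔ LinearMap.range (diag k K) := by
  have := FF30.finite_of_finrank_two hdeg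
  have hF := FF30.ratFunc_isFunctionField k
  have h0 : FF30.delta (0 : Divisor k (RatFunc k)) = genus k (RatFunc k) := by
    rw [FF30.delta_zero hF, FF30.ratFunc_genus]; rfl
  have hmem : (Pi.single p r : Place k (RatFunc k) → RatFunc k) ∈ adele k (RatFunc k) := single_mem_adele p r
  rw [FF30.adele_eq_sup hF h0] at hmem
  obtain ⟨a, ha, _, ⟨z, rfl⟩, hsum⟩ := Submodule.mem_sup.1 hmem
  refine Submodule.mem_sup.2 ⟨Pi.single Q (algebraMap (RatFunc k) K r) - diag k K (algebraMap (RatFunc k) K z),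
    fun Q' => ?_, _, ⟨_, rfl⟩, sub_add_cancel _ _⟩
  rw [Finsupp.zero_apply, exp_zero, Pi.sub_apply]
  change Q'.1 (_ - algebraMap (RatFunc k) K z) ≤ 1
  obtain ⟨p', e', -, he'⟩ := (FF30.ratFunc_ff k).exists_isOverWith (K' := K) Q'
  have hap : p'.1 (Pi.single (M := fun _ => RatFunc k) p r p' - z) ≤ 1 := by
    rw [← congrFun hsum p', Pi.add_apply]
    change p'.1 (a p' + z - z) ≤ 1
    rw [add_sub_cancel_right]
    simpa using ha p'
  have hcond : Q' = Q ↔ p' = p :=
    ⟨fun h => (FF30.isOverWith_unique (h ▸ he') he).1, fun h => huniq Q' (h ▸ ⟨e', he'⟩)⟩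
  have : (Pi.single Q (algebraMap (RatFunc k) K r) : Place k K → K) Q' =
      algebraMap (RatFunc k) K (Pi.single (M := fun _ => RatFunc k) p r p') := by
    by_cases h : Q' = Q
    · rw [hcond.1 h, h, Pi.single_eq_same, Pi.single_eq_same]
    · rw [Pi.single_eq_of_ne h, Pi.single_eq_of_ne (mt hcond.2 h), map_zero]
  rw [this, ← map_sub, he']
  exact pow_le_one' hap e'

end Groth.Agent.Hyp31

namespace Groth.Agent.Hyp31

open FunFld WithZero Polynomial

universe u v

variable {k : Type u} [Field k] [CharP k 2] {K : Type v} [Field K] [Algebra k K] [Algebra (RatFunc k) K]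
  [IsScalarTower k (RatFunc k) K] [Algebra.IsSeparable (RatFunc k) K] {y : K} {f : RatFunc k} {B : Finset k}
  {d : k → ℕ}

local notation "ι" => algebraMap (Polynomial k) (RatFunc k)

/-- If `u + v y` is integral above `p` then `v` is, and at a pole it vanishes to half the order. -/
theorem PoleData.val_coeff_le (hP : PoleData f B d) (hdeg : Module.finrank (RatFunc k) K = 2)
    (hy : y ∉ Set.range (algebraMap (RatFunc k) K)) (heq : y ^ 2 + y = algebraMap (RatFunc k) K f)
    (p : Place k (RatFunc k)) {u v : RatFunc k}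
    (h : ∀ Q : Place k K, IsOver Q p → Q.1 (algebraMap (RatFunc k) K u + algebraMap (RatFunc k) K v * y) ≤ 1) :
    p.1 v ≤ exp (FF30.asDiv f p) := by
  rcases eq_or_ne v 0 with rfl | hv
  · rw [map_zero]; exact zero_le
  have := FF30.charP_two_ratFunc (k := k) (ringChar.eq k 2)
  have hw : algebraMap (RatFunc k) K u + algebraMap (RatFunc k) K v * y ∉ Set.range (algebraMap (RatFunc k) K) := by
    rintro ⟨r, hr⟩
    exact hv (FF30.repr_unique hy (u := r) (v := 0) (by simpa using hr)).2.symm
  have hrel := FF30.quadratic_relation (K := K) (y := y) (ε := (1 : RatFunc k)) (f := f) (u := u) (v := v)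
    (by simpa using heq)
  obtain ⟨hS, hN⟩ := ((FF30.ratFunc_ff k).quadratic_regular hdeg p hw hrel).1 h
  simp only [CharTwo.two_eq_zero, zero_mul, zero_sub, one_mul, Valuation.map_neg] at hS hN
  have h' := FF30.as_cond p f (hP.ord_odd p) 0 u v (by rwa [exp_zero]) (by rwa [exp_zero, one_mul])
  rw [zero_add] at h'
  exact h'.2

open Classical in
/-- The classes are independent. -/
theorem class_eq_zero_imp (hdeg : Module.finrank (RatFunc k) K = 2)
    (hy : y ∉ Set.range (algebraMap (RatFunc k) K)) (heq : y ^ 2 + y = algebraMap (RatFunc k) K f)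
    (hP : PoleData f B d) (h0 : (0 : k) ∈ B) (Pl : k → Place k K)
    (hPl : ∀ β ∈ B, (Pl β).1 (algebraMap (RatFunc k) K RatFunc.X - algebraMap k K β) < 1)
    (s : Finset (PFIdx B d)) (c : PFIdx B d → k)
    (h : ∑ i ∈ s, c i • (Sum.elim
        (fun a : {a : ↥B × ℕ // 1 ≤ a.2 ∧ 2 * a.2 + 1 ≤ d (a.1 : k)} =>
          (Pi.single (Pl (a.1.1 : k)) (y * (algebraMap (RatFunc k) K RatFunc.X - algebraMap k K (a.1.1 : k)) ^ a.1.2) : Place k K → K))
        (fun b : {b : ↥B // (b : k) ≠ 0} => (Pi.single (Pl (b.1 : k)) y : Place k K → K))) i ∈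
      AD (0 : Divisor k K) ⊔ LinearMap.range (diag k K)) :
    ∀ i ∈ s, c i = 0 := by
  have := FF30.finite_of_finrank_two hdeg
  set x := algebraMap (RatFunc k) K RatFunc.X
  -- the polynomial carried by each component
  let site : PFIdx B d → k := Sum.elim (fun a => (a.1.1 : k)) (fun b => (b.1 : k))
  let deg' : PFIdx B d → ℕ := Sum.elim (fun a => a.1.2) (fun _ => 0)
  have hsite : ∀ i, site i ∈ B := by intro i; rcases i with a | b <;> simp [site]
  have hfam : ∀ i, (Sum.elim
        (fun a : {a : ↥B × ℕ // 1 ≤ a.2 ∧ 2 * a.2 + 1 ≤ d (a.1 : k)} =>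
          (Pi.single (Pl (a.1.1 : k)) (y * (x - algebraMap k K (a.1.1 : k)) ^ a.1.2) : Place k K → K))
        (fun b : {b : ↥B // (b : k) ≠ 0} => (Pi.single (Pl (b.1 : k)) y : Place k K → K))) i =
      Pi.single (Pl (site i)) (algebraMap (RatFunc k) K (ι ((X - C (site i)) ^ deg' i)) * y) := by
    intro i
    rcases i with a | b
    · simp only [Sum.elim_inl, site, deg', map_pow, alg_X_sub_C, algebraMap_X_sub_C]
      rw [mul_comm]
    · simp [site, deg']
  simp only [hfam] at h
  obtain ⟨a, ha, _, ⟨z, rfl⟩, hsum⟩ := Submodule.mem_sup.1 h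
  let W : k → k[X] := fun α => ∑ i ∈ s with site i = α, C (c i) * (X - C α) ^ deg' i
  have hat : ∀ Q : Place k K, ∀ α ∈ B, Q = Pl α →
      Q.1 (algebraMap (RatFunc k) K (ι (W α)) * y - z) ≤ 1 := by
    rintro Q α hα rfl
    have hQ := congrFun hsum (Pl α)
    rw [Finset.sum_apply, Pi.add_apply] at hQ
    have hS : ∑ i ∈ s, (c i • (Pi.single (Pl (site i)) (algebraMap (RatFunc k) K (ι ((X - C (site i)) ^ deg' i)) * y) : Place k K → K)) (Pl α) =
        algebraMap (RatFunc k) K (ι (W α)) * y := by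
      simp only [W, map_sum, Finset.sum_mul, Finset.sum_filter]
      refine Finset.sum_congr rfl fun i _ => ?_
      by_cases hi : site i = α
      · rw [if_pos hi, hi, Pi.smul_apply, Pi.single_eq_same, Algebra.smul_def, map_mul, map_mul,
          RatFunc.algebraMap_C, ← algebraMap_C', ← IsScalarTower.algebraMap_apply k (RatFunc k) K, mul_assoc]
      · have hne : Pl α ≠ Pl (site i) := fun he => by
          obtain ⟨p, hp, hov, -, -⟩ := hP.above_pole hdeg hy heq hα (hPl α hα)
          obtain ⟨p', hp', hov', -, -⟩ := hP.above_pole hdeg hy heq (hsite i) (hPl _ (hsite i))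
          rw [← he] at hov'
          obtain ⟨rfl, -⟩ := FF30.isOverWith_unique hov hov'
          have h1 := val_X_sub_C_of_ne hp hi
          rw [h1] at hp'
          exact lt_irrefl _ hp'
        rw [if_neg hi, Pi.smul_apply, Pi.single_eq_of_ne hne, smul_zero, map_zero, map_zero, zero_mul]
    rw [hS] at hQ
    rw [← hQ]
    change (Pl α).1 (a (Pl α) + z - z) ≤ 1
    rw [add_sub_cancel_right]
    simpa using ha (Pl α)
  have hoff : ∀ Q : Place k K, (∀ α ∈ B, Q ≠ Pl α) → Q.1 z ≤ 1 := by
    intro Q hQ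
    have h' := congrFun hsum Q
    rw [Finset.sum_apply, Finset.sum_eq_zero fun i _ => by
      rw [Pi.smul_apply, Pi.single_eq_of_ne (hQ _ (hsite i)), smul_zero], Pi.add_apply] at h'
    rw [show z = -a Q from eq_neg_of_add_eq_zero_right (by simpa [diag] using h'), Valuation.map_neg]
    simpa using ha Q
  obtain ⟨u, v, rfl⟩ := FF30.exists_repr_quadratic hdeg hy z
  -- at each pole the difference is small
  have hα' : ∀ α ∈ B, ∃ p : Place k (RatFunc k), p.1 (RatFunc.X - RatFunc.C α) < 1 ∧
      p.1 (v - ι (W α)) ≤ exp (-((d α : ℤ) + 1) / 2) := by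
    intro α hα
    obtain ⟨p, hp, hov, huniq, -⟩ := hP.above_pole hdeg hy heq hα (hPl α hα)
    refine ⟨p, hp, (hP.val_coeff_le hdeg hy heq p (u := u) fun Q hQ => ?_).trans_eq ?_⟩
    · rw [← Valuation.map_neg, show -(algebraMap (RatFunc k) K u + algebraMap (RatFunc k) K (v - ι (W α)) * y) =
        algebraMap (RatFunc k) K (ι (W α)) * y -
          (algebraMap (RatFunc k) K u + algebraMap (RatFunc k) K v * y) by rw [map_sub]; ring]
      exact hat Q α hα (huniq Q hQ)
    · rw [FF30.asDiv_apply, if_pos (hP.ord_neg hα hp), hP.pole p α hα hp]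
      congr 1
      obtain ⟨m, hm⟩ := hP.odd α hα
      omega
  -- hence `v` is a constant
  have hv : v ∈ L (0 : Divisor k (RatFunc k)) := by
    rw [FF30.mem_L]
    intro p
    rw [Finsupp.zero_apply, exp_zero]
    by_cases hB : ∃ α ∈ B, p.1 (RatFunc.X - RatFunc.C α) < 1
    · obtain ⟨α, hα, hp⟩ := hB
      obtain ⟨p', hp', hle⟩ := hα' α hα
      rw [place_at_unique hp hp']
      rw [show v = (v - ι (W α)) + ι (W α) by ring]
      refine (p'.1.map_add _ _).trans (max_le (hle.trans ?_) (FF30.val_poly_le_one p' (ord_X_nonneg_of_at hp') _))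
      rw [← exp_zero, exp_le_exp]; omega
    · push Not at hB
      refine (hP.val_coeff_le hdeg hy heq p (u := u) fun Q ⟨e, he⟩ => hoff Q fun α hα hQ => ?_).trans ?_
      · subst hQ
        exact not_lt.2 (hB α hα) ((lt_one_at_iff he).1 (hPl α hα))
      · rw [← exp_zero, exp_le_exp, FF30.asDiv_apply]; split_ifs <;> omega
  rw [FF30.L_zero' (FF30.ratFunc_isFunctionField k), FF30.mem_one_iff] at hv
  obtain ⟨v₀, rfl⟩ := hv
  have hW : ∀ α ∈ B, W α = C v₀ := by
    intro α hα
    by_contra hne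
    obtain ⟨p, hp, hle⟩ := hα' α hα
    set g := C v₀ - W α
    have hg : g ≠ 0 := sub_ne_zero.2 (Ne.symm hne)
    have hdegW : (W α).natDegree ≤ (d α - 1) / 2 := by
      refine natDegree_sum_le_of_forall_le _ _ fun i hi => (natDegree_C_mul_le _ _).trans ?_
      rw [natDegree_pow, natDegree_X_sub_C, mul_one]
      obtain ⟨-, hi⟩ := Finset.mem_filter.1 hi
      rcases i with a' | b'
      · have := a'.2.2
        simp only [site, Sum.elim_inl] at hi
        simp only [deg', Sum.elim_inl, ← hi]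
        omega
      · simp [deg']
    have hdegg : g.natDegree ≤ (d α - 1) / 2 :=
      (natDegree_sub_le _ _).trans (max_le (by simp) hdegW)
    obtain ⟨m, r, hgr, hr⟩ := FF30.exists_pow_mul (irreducible_X_sub_C α) hg
    have hr0 : r ≠ 0 := fun h0 => hr (h0 ▸ dvd_zero _)
    have hm : m ≤ g.natDegree := by
      rw [hgr, natDegree_mul (pow_ne_zero _ (X_sub_C_ne_zero α)) hr0, natDegree_pow, natDegree_X_sub_C, mul_one]
      omega
    have hord : p.ord (ι g) = m := by
      rw [hgr, map_mul, FF30.ord_mul p (by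
          exact (map_ne_zero_iff _ (RatFunc.algebraMap_injective k)).2 (pow_ne_zero _ (X_sub_C_ne_zero α)))
        ((map_ne_zero_iff _ (RatFunc.algebraMap_injective k)).2 hr0), map_pow, FF30.ord_pow,
        FF30.ord_irreducible p (irreducible_X_sub_C α) (by rwa [alg_X_sub_C]),
        FF30.ord_poly_eq_zero p (irreducible_X_sub_C α) (by rwa [alg_X_sub_C]) hr]
      ring
    have heqg : algebraMap k (RatFunc k) v₀ - ι (W α) = ι g := by
      rw [map_sub, RatFunc.algebraMap_C, algebraMap_C']
    rw [heqg, FF30.val_eq p ((map_ne_zero_iff _ (RatFunc.algebraMap_injective k)).2 hg), exp_le_exp, hord] at hle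
    obtain ⟨l, hl⟩ := hP.odd α hα
    omega
  -- read off the coefficients
  have hcoeff : ∀ i ∈ s, (W (site i)).comp (X + C (site i)) = C v₀ ∧
      ((W (site i)).comp (X + C (site i))).coeff (deg' i) = c i := by
    intro i hi
    refine ⟨by rw [hW _ (hsite i), C_comp], ?_⟩
    simp only [W, sum_comp, mul_comp, C_comp, pow_comp, sub_comp, X_comp, add_sub_cancel_right, finsetSum_coeff,
      coeff_C_mul_X_pow]
    refine (Finset.sum_eq_single i ?_ ?_).trans (if_pos rfl)
    · intro i' hi' hne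
      refine if_neg fun hd' => hne ?_
      obtain ⟨-, hs'⟩ := Finset.mem_filter.1 hi'
      rcases i with a₁ | b₁ <;> rcases i' with a₂ | b₂ <;> simp only [site, deg', Sum.elim_inl, Sum.elim_inr] at hs' hd'
      · exact congrArg Sum.inl (Subtype.ext (Prod.ext (Subtype.ext hs') hd'.symm))
      · have := a₁.2.1; omega
      · have := a₂.2.1; omega
      · exact congrArg Sum.inr (Subtype.ext (Subtype.ext hs'))
    · exact fun hn => absurd (by simp [hi]) hn
  have hinl : ∀ a', Sum.inl a' ∈ s → c (Sum.inl a') = 0 := fun a' ha' => by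
    obtain ⟨h1, h2⟩ := hcoeff _ ha'
    rw [← h2, h1, coeff_C, if_neg]
    have := a'.2.1
    simp only [deg', Sum.elim_inl]
    omega
  intro i hi
  rcases i with a' | b'
  · exact hinl a' hi
  · obtain ⟨h1, h2⟩ := hcoeff _ hi
    rw [← h2, h1]
    have hW0 := hW 0 h0
    have hzero : W 0 = 0 := Finset.sum_eq_zero fun i hi' => by
      obtain ⟨hi', hs'⟩ := Finset.mem_filter.1 hi'
      rcases i with a₁ | b₁
      · rw [hinl a₁ hi', map_zero, zero_mul]
      · exact absurd hs' b₁.2
    rw [hzero] at hW0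
    simp [C_eq_zero.1 hW0.symm]

end Groth.Agent.Hyp31
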