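import Groth.Agent.Hyp31.Regular

/-! Regular forms of a hyperelliptic function field. -/

namespace Groth.Agent.Hyp31

open FunFld WithZero Polynomial
open scoped LaurentSeries

universe u v w

variable {k : Type u} {K : Type v} [Field k] [Field K] [Algebra k K] [Algebra (RatFunc k) K]
  [IsScalarTower k (RatFunc k) K]

local notation "ι" => algebraMap (Polynomial k) (RatFunc k)

variable {y : K} {f : k[X]}

theorem hyper_separable (h2 : ringChar k ≠ 2) (hdeg : Module.finrank (RatFunc k) K = 2)
    (hf : Squarefree f) (hd : 1 ≤ f.natDegree) (heq : y ^ 2 = algebraMap (RatFunc k) K (ι f)) :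
    Algebra.IsSeparable (RatFunc k) K := by
  have hy := FF30.y_notMem hf hd heq
  have hf0 : ι f ≠ 0 := by
    have : f ≠ 0 := by rintro rfl; simp at hd
    simpa using this
  have := FF30.finite_of_finrank_two hdeg
  have hmin : minpoly (RatFunc k) y = X ^ 2 - C (ι f) := by
    rw [FF30.minpoly_quadratic hy (S := 0) (N := -ι f) (by rw [map_zero, zero_mul, sub_zero, map_neg, heq, add_neg_cancel]),
      map_zero, zero_mul, sub_zero, map_neg, sub_eq_add_neg]
  have hsep : IsSeparable (RatFunc k) y := by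
    rw [IsSeparable, hmin]
    exact separable_X_pow_sub_C _ (by exact_mod_cast FF30.two_ne_zero_ratFunc (k := k) h2) hf0
  have h : Algebra.IsSeparable (RatFunc k) (IntermediateField.adjoin (RatFunc k) ({y} : Set K)) :=
    (IntermediateField.isSeparable_adjoin_simple_iff_isSeparable _ _).2 hsep
  rw [FF30.intermediate_eq_top_quadratic hdeg hy] at h
  exact Algebra.IsSeparable.of_algHom _ _ IntermediateField.topEquiv.symm.toAlgHom

theorem hyper_hval (hK : IsFunctionField k K) (h2 : ringChar k ≠ 2) (hdeg : Module.finrank (RatFunc k) K = 2)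
    (hf : Squarefree f) (hd : 1 ≤ f.natDegree) (heq : y ^ 2 = algebraMap (RatFunc k) K (ι f))
    {F' : Type w} [Field F'] [Algebra k F'] {Q : Place k K} {ψ : K →ₐ[k] F'⸨X⸩}
    (hψ : LocRes.IsExpansionAt Q.1 ψ) {p : Place k (RatFunc k)} {e : ℕ} (he : IsOverWith Q p e) :
    Valued.v (LocRes.D F' (ψ (algebraMap (RatFunc k) K RatFunc.X))) * Q.1 y⁻¹ =
      if p.ord (RatFunc.X : RatFunc k) < 0 then exp (-(e : ℤ) * ((genus k K : ℤ) - 1)) else 1 := by
  have := FF30.finite_of_finrank_two hdeg
  have := hyper_separable h2 hdeg hf hd heq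
  have hff := FF30.ratFunc_ff k
  have hy := FF30.y_notMem hf hd heq
  have hf0 : f ≠ 0 := by rintro rfl; simp at hd
  have hy0 : y ≠ 0 := fun h => hy ⟨0, by rw [map_zero, h]⟩
  have h2k : (2 : k) ≠ 0 := Ring.two_ne_zero h2
  have h2F : (2 : F') ≠ 0 := by
    rw [← map_ofNat (algebraMap k F') 2]; exact (_root_.map_ne_zero _).2 h2k
  have hepos := FF30.isOverWith_pos he
  have hordy := FF30.ord_y heq he
  rw [map_inv₀, FF30.val_eq Q hy0, ← exp_neg]
  by_cases hX : p.ord (RatFunc.X : RatFunc k) < 0
  · have hordf : p.ord (ι f) = -(f.natDegree : ℤ) := by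
      rw [FF30.ord_poly_inf p hX hf0, FF30.ord_inf p hX, mul_neg_one]
    rw [hordf] at hordy
    obtain ⟨hodd, heven⟩ := FF30.hyper_inf h2 hdeg hf hd heq p hX
    have hgen := FF30.hyper_genus hK h2 hdeg hf hd heq
    rw [if_pos hX]
    rcases Nat.even_or_odd f.natDegree with hev | hod
    · obtain rfl : e = 1 := (FF30.isOverWith_unique he ((heven hev).2 Q ⟨e, he⟩)).2
      rw [val_D_X_infinite hψ he hX (by simp), ← exp_add]
      obtain ⟨m, hm⟩ := hev
      congr 1
      omega
    · obtain rfl : e = 2 := (FF30.isOverWith_unique he ((hodd hod).2 Q ⟨e, he⟩).1).2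
      rw [val_D_X_infinite hψ he hX (by exact_mod_cast h2F), ← exp_add]
      obtain ⟨m, hm⟩ := hod
      congr 1
      omega
  · rw [if_neg hX]
    rw [not_lt] at hX
    obtain ⟨π, hπ, hp⟩ := FF30.exists_irreducible_of_finite p hX
    by_cases hdvd : π ∣ f
    · obtain rfl : e = 2 :=
        (FF30.isOverWith_unique he ((FF30.hyper_ramified hdeg hf heq hπ hdvd p hp).2 Q ⟨e, he⟩).1).2
      have hordf : p.ord (ι f) = 1 := by
        refine le_antisymm (FF30.ord_squarefree_le_one p hX hf hf0) ?_
        obtain ⟨g, rfl⟩ := hdvd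
        rw [map_mul, FF30.ord_mul p (by simpa using hπ.ne_zero) (by simpa using right_ne_zero_of_mul hf0),
          FF30.ord_irreducible p hπ hp]
        have := FF30.ord_poly_nonneg p hX g
        omega
      rw [hordf] at hordy
      rw [val_D_X_finite hψ he hX (by exact_mod_cast h2F), ← exp_add, ← exp_zero]
      congr 1
      push_cast at hordy ⊢
      omega
    · have hordf := FF30.ord_poly_eq_zero p hπ hp hdvd
      rw [hordf, mul_zero] at hordy
      have hyv : Q.1 y = 1 := (FF30.val_eq_one_iff Q hy0).2 (by omega)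
      have he1 : IsOverWith Q p 1 := by
        refine FF30.unramified_of_monic hdeg hy (S := 0) (N := -ι f)
          (by rw [map_zero, zero_mul, sub_zero, map_neg, heq, add_neg_cancel]) p (by simp)
          (by rw [Valuation.map_neg]; exact FF30.val_poly_le_one p hX f) he ?_
        rw [map_zero, sub_zero, map_mul, hyv, mul_one, ← map_ofNat (algebraMap k K) 2]
        exact FF30.val_algebraMap Q h2k
      obtain rfl : e = 1 := (FF30.isOverWith_unique he he1).2
      rw [val_D_X_finite hψ he hX (by simp), ← exp_add, ← exp_zero]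
      congr 1
      push_cast
      omega

/-- The regular forms are the `a(x) dx / y`, `deg a < g`. -/
theorem hyper_regular_iff (hK : IsFunctionField k K) (h2 : ringChar k ≠ 2)
    (hdeg : Module.finrank (RatFunc k) K = 2)
    (hf : Squarefree f) (hd : 1 ≤ f.natDegree) (heq : y ^ 2 = algebraMap (RatFunc k) K (ι f))
    {F : Place k K → Type w} [∀ P, Field (F P)] [∀ P, Algebra k (F P)]
    {φ : ∀ P, K →ₐ[k] (F P)⸨X⸩} (hφ : ∀ P, LocRes.IsExpansionAt P.1 (φ P)) (z : K) :
    (∀ P, LocRes.vDiff (φ P) z (algebraMap (RatFunc k) K RatFunc.X) ≤ 1) ↔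
      ∃ a : k[X], a.degree < (genus k K : WithBot ℕ) ∧ z = algebraMap (RatFunc k) K (ι a) / y := by
  have hy := FF30.y_notMem hf hd heq
  simp only [div_eq_mul_inv]
  refine regular_iff_of_split hdeg hy (FF30.mem_L_hyper h2 hdeg hf hd heq) ?_ hφ
    (inv_ne_zero fun h => hy ⟨0, by rw [map_zero, h]⟩) (fun Q p e he => hyper_hval hK h2 hdeg hf hd heq (hφ Q) he) z
  rw [FF30.hyperDiv_deg hf hd, FF30.hyper_genus hK h2 hdeg hf hd heq]
  omega

end Groth.Agent.Hyp31
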