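import Groth.Agent.Hyp31.Pole

/-! The partial fraction basis of the regular forms in characteristic two. -/

namespace Groth.Agent.Hyp31

open FunFld WithZero Polynomial
open scoped LaurentSeries

universe u v w

variable {k : Type u} [Field k] {B : Finset k} {d : k → ℕ}

local notation "ι" => algebraMap (Polynomial k) (RatFunc k)

/-- The index of the partial fraction family. -/
abbrev PFIdx (B : Finset k) (d : k → ℕ) :=
  {a : ↥B × ℕ // 1 ≤ a.2 ∧ 2 * a.2 + 1 ≤ d (a.1 : k)} ⊕ {b : ↥B // (b : k) ≠ 0}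

/-- The partial fraction family in `k(x)`. -/
noncomputable def pfFam (B : Finset k) (d : k → ℕ) : PFIdx B d → RatFunc k :=
  Sum.elim (fun a => ((RatFunc.X : RatFunc k) - RatFunc.C (a.1.1 : k))⁻¹ ^ (a.1.2 + 1))
    (fun b => RatFunc.C (b.1 : k) / (RatFunc.X * (RatFunc.X - RatFunc.C (b.1 : k))))

def pfEquiv (B : Finset k) (d : k → ℕ) :
    {a : ↥B × ℕ // 1 ≤ a.2 ∧ 2 * a.2 + 1 ≤ d (a.1 : k)} ≃ Σ α : ↥B, Fin ((d (α : k) - 1) / 2) where
  toFun a := ⟨a.1.1, a.1.2 - 1, by have := a.2; omega⟩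
  invFun s := ⟨(s.1, s.2.1 + 1), by have := s.2.2; dsimp only; omega⟩
  left_inv a := by
    obtain ⟨⟨α, j⟩, hj⟩ := a
    apply Subtype.ext
    simp only [Prod.mk.injEq, true_and]
    omega
  right_inv s := by
    obtain ⟨α, j, hj⟩ := s
    simp

theorem card_pfIdx [Fintype (PFIdx B d)] (h0 : (0 : k) ∈ B) (hd : ∀ α ∈ B, Odd (d α)) :
    Fintype.card (PFIdx B d) + 1 = (qPoly B d).natDegree := by
  classical
  rw [← Nat.card_eq_fintype_card]
  have : Finite {a : ↥B × ℕ // 1 ≤ a.2 ∧ 2 * a.2 + 1 ≤ d (a.1 : k)} := Finite.of_equiv _ (pfEquiv B d).symm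
  rw [Nat.card_sum, Nat.card_congr (pfEquiv B d), Nat.card_sigma, natDegree_qPoly, ← Finset.sum_coe_sort B]
  have hb : Nat.card {b : ↥B // (b : k) ≠ 0} + 1 = B.card := by
    rw [Nat.card_eq_fintype_card, Fintype.card_subtype]
    have : (Finset.univ.filter fun b : ↥B => (b : k) ≠ 0) = Finset.univ.erase ⟨0, h0⟩ := by
      ext b
      simp [Subtype.ext_iff]
    rw [this, Finset.card_erase_add_one (Finset.mem_univ _), Finset.card_univ, Fintype.card_coe]
  simp only [Nat.card_fin]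
  have hsum : ∀ α : ↥B, (d (α : k) + 1) / 2 = (d (α : k) - 1) / 2 + 1 := fun α => by
    obtain ⟨m, hm⟩ := hd α α.2
    omega
  rw [Finset.sum_congr rfl fun α _ => hsum α, Finset.sum_add_distrib, Finset.sum_const, smul_eq_mul,
    mul_one, Finset.card_univ, Fintype.card_coe, add_assoc, hb]

theorem exists_rep_of_dvd {h q : k[X]} (hq : q ≠ 0) (hdvd : h ∣ q) {n : ℕ} (hn : q.natDegree < n + h.natDegree) :
    ∃ r : k[X], r.degree < (n : WithBot ℕ) ∧ ι r / ι q = (ι h)⁻¹ := by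
  obtain ⟨r, rfl⟩ := hdvd
  have hr : r ≠ 0 := right_ne_zero_of_mul hq
  have hh : h ≠ 0 := left_ne_zero_of_mul hq
  rw [natDegree_mul hh hr] at hn
  refine ⟨r, ?_, ?_⟩
  · rw [degree_eq_natDegree hr]; exact_mod_cast (by omega : r.natDegree < n)
  · rw [map_mul, div_eq_mul_inv, mul_inv, mul_left_comm, mul_inv_cancel₀ (by simpa using hr), mul_one]

theorem pfFam_rep (h0 : (0 : k) ∈ B) (hd : ∀ α ∈ B, Odd (d α)) {g : ℕ}
    (hg : (qPoly B d).natDegree = g + 1) (i : PFIdx B d) :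
    ∃ r : k[X], r.degree < (g : WithBot ℕ) ∧ pfFam B d i = ι r / ι (qPoly B d) := by
  classical
  have hq : qPoly B d ≠ 0 := qPoly_monic.ne_zero
  rcases i with ⟨⟨α, j⟩, hj1, hj2⟩ | ⟨⟨α, hα⟩, hne⟩
  · obtain ⟨r, hr, he⟩ := exists_rep_of_dvd hq (h := (X - C (α : k)) ^ (j + 1))
      ((pow_dvd_pow _ (by dsimp only at hj2; omega)).trans (Finset.dvd_prod_of_mem _ α.2)) (n := g)
      (by rw [natDegree_pow, natDegree_X_sub_C]; dsimp only at hj1 hj2; omega)
    refine ⟨r, hr, ?_⟩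
    rw [he, map_pow, alg_X_sub_C, ← inv_pow]
    rfl
  · have hdvd : X * (X - C α) ∣ qPoly B d := by
      have h1 : ∏ β ∈ ({0, α} : Finset k), (X - C β) ∣ ∏ β ∈ B, (X - C β) :=
        Finset.prod_dvd_prod_of_subset _ _ _ (by simp [Finset.insert_subset_iff, h0, hα])
      rw [Finset.prod_pair (Ne.symm hne), C_0, sub_zero] at h1
      refine h1.trans (Finset.prod_dvd_prod_of_dvd _ _ fun β hβ => dvd_pow_self _ ?_)
      obtain ⟨m, hm⟩ := hd β hβ
      omega
    obtain ⟨r, hr, he⟩ := exists_rep_of_dvd hq hdvd (n := g)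
      (by rw [natDegree_mul X_ne_zero (X_sub_C_ne_zero α), natDegree_X, natDegree_X_sub_C]; omega)
    refine ⟨C α * r, lt_of_le_of_lt ?_ hr, ?_⟩
    · rw [degree_C_mul hne]
    · rw [map_mul, mul_div_assoc, he, map_mul, RatFunc.algebraMap_C, RatFunc.algebraMap_X, alg_X_sub_C,
        ← div_eq_mul_inv]
      rfl

theorem ord_single_pole {p : Place k (RatFunc k)} {α : k} (hp : p.1 (RatFunc.X - RatFunc.C α) < 1) (n : ℕ) :
    p.1 ((RatFunc.X - RatFunc.C α : RatFunc k)⁻¹ ^ n) = exp (n : ℤ) := by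
  have h0 : (RatFunc.X - RatFunc.C α : RatFunc k) ≠ 0 := by
    rw [← alg_X_sub_C]; exact (map_ne_zero_iff _ (RatFunc.algebraMap_injective k)).2 (X_sub_C_ne_zero α)
  rw [map_pow, map_inv₀, FF30.val_eq p h0, ord_X_sub_C_self hp, ← exp_neg, neg_neg, ← exp_nsmul]
  simp

theorem val_pow_inv_of_ne {p : Place k (RatFunc k)} {α β : k} (hp : p.1 (RatFunc.X - RatFunc.C α) < 1)
    (hne : β ≠ α) (n : ℕ) : p.1 ((RatFunc.X - RatFunc.C β : RatFunc k)⁻¹ ^ n) = 1 := by
  rw [map_pow, map_inv₀, val_X_sub_C_of_ne hp hne, inv_one, one_pow]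

open Classical in
theorem val_pfFam_inr {p : Place k (RatFunc k)} {α : k} (hp : p.1 (RatFunc.X - RatFunc.C α) < 1)
    (b : {b : ↥B // (b : k) ≠ 0}) :
    p.1 (pfFam B d (Sum.inr b)) = if (b.1 : k) = α ∨ α = 0 then exp (1 : ℤ) else 1 := by
  have hC : p.1 (RatFunc.C (b.1 : k) : RatFunc k) = 1 := by
    rw [← algebraMap_C']; exact FF30.val_algebraMap p b.2
  change p.1 (RatFunc.C (b.1 : k) / (RatFunc.X * (RatFunc.X - RatFunc.C (b.1 : k)))) = _
  have hX : p.1 (RatFunc.X : RatFunc k) = p.1 (RatFunc.X - RatFunc.C 0) := by rw [map_zero, sub_zero]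
  have hself : p.1 (RatFunc.X - RatFunc.C α : RatFunc k) = exp (-1 : ℤ) := by
    rw [FF30.val_eq p, ord_X_sub_C_self hp]
    rw [← alg_X_sub_C]; exact (map_ne_zero_iff _ (RatFunc.algebraMap_injective k)).2 (X_sub_C_ne_zero α)
  rw [map_div₀, map_mul, hC, hX]
  by_cases hb : (b.1 : k) = α
  · rw [if_pos (Or.inl hb), hb, hself, val_X_sub_C_of_ne hp (fun h => b.2 (hb.trans h.symm)), one_mul,
      one_div, exp_neg, inv_inv]
  · by_cases hα : α = 0
    · rw [if_pos (Or.inr hα), val_X_sub_C_of_ne hp hb, mul_one, ← hα, hself, one_div, exp_neg, inv_inv]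
    · rw [if_neg (not_or.2 ⟨hb, hα⟩), val_X_sub_C_of_ne hp hb, val_X_sub_C_of_ne hp (Ne.symm hα), mul_one,
        div_one]

theorem pfFam_ne_zero (i : PFIdx B d) : pfFam B d i ≠ 0 := by
  have hL : ∀ α : k, (RatFunc.X - RatFunc.C α : RatFunc k) ≠ 0 := fun α => by
    rw [← alg_X_sub_C]; exact (map_ne_zero_iff _ (RatFunc.algebraMap_injective k)).2 (X_sub_C_ne_zero _)
  rcases i with a | b
  · exact pow_ne_zero _ (inv_ne_zero (hL _))
  · exact div_ne_zero (by rw [← algebraMap_C']; exact (_root_.map_ne_zero _).2 b.2)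
      (mul_ne_zero RatFunc.X_ne_zero (hL _))

theorem linearIndependent_pfFam (hd : ∀ α ∈ B, Odd (d α)) : LinearIndependent k (pfFam B d) := by
  classical
  rw [linearIndependent_iff']
  intro s c hsum
  have key : ∀ (p : Place k (RatFunc k)) (i : PFIdx B d), i ∈ s →
      (∀ l ∈ s, l ≠ i → c l ≠ 0 → p.1 (pfFam B d l) < p.1 (pfFam B d i)) → c i = 0 := by
    intro p i hi hlt
    by_contra hc
    have hpos : p.1 (c i • pfFam B d i) ≠ 0 := by
      rw [FF30.val_smul p hc]; exact (Valuation.ne_zero_iff _).2 (pfFam_ne_zero i)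
    have h := p.1.map_sum_eq_of_lt (f := fun l => c l • pfFam B d l) hi
      (fun l hl => by
        obtain ⟨hl, hne⟩ := Finset.mem_sdiff.1 hl
        rw [Finset.mem_singleton] at hne
        rcases eq_or_ne (c l) 0 with h0 | h0
        · rw [h0, zero_smul, map_zero]; exact zero_lt_iff.2 hpos
        · rw [FF30.val_smul p hc, FF30.val_smul p h0]
          exact hlt l hl hne h0)
    rw [hsum, map_zero] at h
    exact hpos h.symm
  have hinl : ∀ a, Sum.inl a ∈ s → c (Sum.inl a) = 0 := by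
    intro a₁ ha₁
    by_contra hc₁
    set α : k := (a₁.1.1 : k)
    set T := s.filter fun l => c l ≠ 0 ∧ ∃ a, l = Sum.inl a ∧ (a.1.1 : k) = α
    obtain ⟨l₀, hl₀, hmax⟩ := T.exists_max_image (Sum.elim (fun a => a.1.2) fun _ => 0)
      ⟨Sum.inl a₁, Finset.mem_filter.2 ⟨ha₁, hc₁, a₁, rfl, rfl⟩⟩
    obtain ⟨hl₀s, hc₀, a, rfl, haα⟩ := Finset.mem_filter.1 hl₀
    obtain ⟨p, hp⟩ := exists_place_at α
    refine hc₀ (key p _ hl₀s fun l hl hne hcl => ?_)
    have hv : p.1 (pfFam B d (Sum.inl a)) = exp ((a.1.2 + 1 : ℕ) : ℤ) := by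
      change p.1 ((RatFunc.X - RatFunc.C (a.1.1 : k) : RatFunc k)⁻¹ ^ (a.1.2 + 1)) = _
      rw [haα]; exact ord_single_pole hp _
    rw [hv]
    rcases l with a' | b'
    · change p.1 ((RatFunc.X - RatFunc.C (a'.1.1 : k) : RatFunc k)⁻¹ ^ (a'.1.2 + 1)) < _
      by_cases hα' : (a'.1.1 : k) = α
      · rw [hα', ord_single_pole hp, exp_lt_exp]
        have hle := hmax (Sum.inl a') (Finset.mem_filter.2 ⟨hl, hcl, a', rfl, hα'⟩)
        have hne' : a'.1.2 ≠ a.1.2 := fun he => hne (congrArg Sum.inl (Subtype.ext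
          (Prod.ext (Subtype.ext (hα'.trans haα.symm)) he)))
        simp only [Sum.elim_inl] at hle
        omega
      · rw [val_pow_inv_of_ne hp hα', ← exp_zero, exp_lt_exp]; omega
    · rw [val_pfFam_inr hp b']
      have := a.2.1
      by_cases hcond : (b'.1 : k) = α ∨ α = 0
      · rw [if_pos hcond, exp_lt_exp]; omega
      · rw [if_neg hcond, ← exp_zero, exp_lt_exp]; omega
  intro i hi
  rcases i with a | b
  · exact hinl a hi
  · obtain ⟨p, hp⟩ := exists_place_at (b.1 : k)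
    refine key p _ hi fun l hl hne hcl => ?_
    rcases l with a' | b'
    · exact absurd (hinl a' hl) hcl
    · rw [val_pfFam_inr hp b', val_pfFam_inr hp b, if_pos (Or.inl rfl), if_neg]
      · rw [← exp_zero, exp_lt_exp]; omega
      · rintro (h | h)
        · exact hne (congrArg Sum.inr (Subtype.ext (Subtype.ext h)))
        · exact b.2 h

end Groth.Agent.Hyp31
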