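import Groth.Agent.Diff31.Galois
import Groth.Agent.Diff31.RH
import Groth.Agent.FF30.QuadraticRat

/-! The differential `dx` on an extension of `k(x)`. -/

namespace Groth.Agent.Hyp31

open FunFld WithZero Polynomial
open scoped LaurentSeries IntermediateField

universe u v w

variable {k : Type u} {K : Type v} [Field k] [Field K] [Algebra k K] [Algebra (RatFunc k) K]
  [IsScalarTower k (RatFunc k) K]

local notation "ι" => algebraMap (Polynomial k) (RatFunc k)

theorem algebraMap_poly (g : k[X]) :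
    algebraMap (RatFunc k) K (ι g) = aeval (algebraMap (RatFunc k) K RatFunc.X) g := by
  rw [aeval_algebraMap_apply, RatFunc.aeval_X_left_eq_algebraMap]

/-- `x` is a separating element of `K`. -/
theorem exists_separating [FiniteDimensional (RatFunc k) K] [Algebra.IsSeparable (RatFunc k) K] :
    ∃ t : K, Transcendental k t ∧ FiniteDimensional k⟮t⟯ K ∧ Algebra.IsSeparable k⟮t⟯ K ∧
      t = algebraMap (RatFunc k) K RatFunc.X := by
  set x := algebraMap (RatFunc k) K RatFunc.X with hx
  have hX : Transcendental k (RatFunc.X : RatFunc k) := by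
    rw [transcendental_iff]
    intro p hp
    rw [RatFunc.aeval_X_left_eq_algebraMap] at hp
    exact (map_eq_zero_iff _ (RatFunc.algebraMap_injective k)).mp hp
  have hx' : Transcendental k x := fun h =>
    hX ((isAlgebraic_algebraMap_iff (algebraMap (RatFunc k) K).injective).mp h)
  have hF := FF30.ratFunc_ff k
  refine ⟨x, hx', (hF.extension K).finiteDimensional_adjoin hx', ?_, rfl⟩
  have hrange : ∀ r : RatFunc k, algebraMap (RatFunc k) K r ∈ k⟮x⟯ := fun r => by
    have h1 : r ∈ k⟮(RatFunc.X : RatFunc k)⟯ := by rw [FF30.ratFunc_adjoin_X]; exact IntermediateField.mem_top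
    have h2 : algebraMap (RatFunc k) K r ∈ k⟮(RatFunc.X : RatFunc k)⟯.map (IsScalarTower.toAlgHom k (RatFunc k) K) :=
      ⟨r, h1, rfl⟩
    rwa [IntermediateField.adjoin_map, Set.image_singleton] at h2
  let g : RatFunc k →+* k⟮x⟯ := (algebraMap (RatFunc k) K).codRestrict k⟮x⟯ hrange
  let _ : Algebra (RatFunc k) k⟮x⟯ := g.toAlgebra
  have : IsScalarTower (RatFunc k) k⟮x⟯ K := IsScalarTower.of_algebraMap_eq fun _ => rfl
  exact Algebra.isSeparable_tower_top_of_isSeparable (RatFunc k) k⟮x⟯ K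

theorem exists_hasse_rat [FiniteDimensional (RatFunc k) K] [Algebra.IsSeparable (RatFunc k) K] :
    ∃ (t : K) (H : K →ₐ[k] PowerSeries K), Algebra.IsSeparable k⟮t⟯ K ∧ LocRes.IsHasseFamily t H := by
  obtain ⟨t, ht, hfin, hsep, -⟩ := exists_separating (k := k) (K := K)
  obtain ⟨H, hH⟩ := Exp31.exists_isHasseFamily t ht
  exact ⟨t, H, hsep, hH⟩

/-- Every integer at a finite place is a polynomial modulo the place. -/
theorem exists_poly_sub_lt (p : Place k (RatFunc k)) {π : k[X]} (hπ : Irreducible π) (hp : p.1 (ι π) < 1)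
    {u : RatFunc k} (hu : p.1 u ≤ 1) : ∃ g : k[X], p.1 (u - ι g) < 1 := by
  have hX := FF30.ord_X_nonneg_of_lt p hπ.ne_zero hp
  rcases eq_or_ne u 0 with rfl | hu0
  · exact ⟨0, by simp⟩
  have hd : ¬ π ∣ u.denom := by
    intro hdvd
    have hn : ¬ π ∣ u.num := fun h =>
      hπ.not_isUnit ((RatFunc.isCoprime_num_denom u).isUnit_of_dvd' h hdvd)
    have h1 := FF30.ord_poly_eq_zero p hπ hp hn
    obtain ⟨w, hw⟩ := hdvd
    have hw0 : w ≠ 0 := fun h => u.denom_ne_zero (by rw [hw, h, mul_zero])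
    have h2 : 1 ≤ p.ord (ι u.denom) := by
      rw [hw, map_mul, FF30.ord_mul p (by simpa using hπ.ne_zero) (by simpa using hw0),
        FF30.ord_irreducible p hπ hp]
      have := FF30.ord_poly_nonneg p hX w
      omega
    rw [FF30.val_le_one_iff, ← u.num_div_denom, FF30.ord_div p (by simpa using RatFunc.num_ne_zero hu0)
      (by simpa using u.denom_ne_zero), h1] at hu
    omega
  obtain ⟨a, b, hab⟩ := hπ.coprime_iff_not_dvd.mpr hd
  refine ⟨u.num * b, ?_⟩
  have h := congrArg ι hab
  rw [map_add, map_mul, map_mul, map_one] at h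
  have hnum : ι u.num = u * ι u.denom := by
    rw [← div_eq_iff (by simpa using u.denom_ne_zero)]; exact u.num_div_denom
  have heq : u - ι (u.num * b) = u * (ι a * ι π) := by
    rw [map_mul, hnum]; linear_combination (-u) * h
  rw [heq, map_mul, map_mul]
  exact lt_of_le_of_lt (mul_le_of_le_one_left' hu)
    (lt_of_le_of_lt (mul_le_of_le_one_left' (FF30.val_poly_le_one p hX a)) hp)

/-- Every integer at infinity is a constant modulo the place. -/
theorem exists_const_sub_lt {p : Place k (RatFunc k)} (hX : p.ord (RatFunc.X : RatFunc k) < 0)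
    {u : RatFunc k} (hu : p.1 u ≤ 1) : ∃ c : k, p.1 (u - algebraMap k (RatFunc k) c) < 1 := by
  have : Module.Finite k (IsLocalRing.ResidueField p.O) := (FF30.ratFunc_ff k).finite_residueField p
  have h1 : Module.finrank k (IsLocalRing.ResidueField p.O) = 1 := FF30.deg_inf hX
  obtain ⟨c, hc⟩ := (finrank_eq_one_iff_of_nonzero' (1 : IsLocalRing.ResidueField p.O) one_ne_zero).1 h1
    (IsLocalRing.residue p.O ⟨u, hu⟩)
  refine ⟨c, ?_⟩
  have h : IsLocalRing.residue p.O (⟨u, hu⟩ - algebraMap k p.O c) = 0 := by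
    rw [map_sub, ← hc, sub_eq_zero]
    exact (FF30.residue_smul_eq_mul p c 1).trans (mul_one _)
  rw [IsLocalRing.residue_eq_zero_iff] at h
  exact (Valuation.mem_maximalIdeal_iff (v := p.1)).1 h

variable [FiniteDimensional (RatFunc k) K] [Algebra.IsSeparable (RatFunc k) K]
  {F' : Type w} [Field F'] [Algebra k F'] {Q : Place k K} {p : Place k (RatFunc k)} {e : ℕ}
  {ψ : K →ₐ[k] F'⸨X⸩}

theorem vDiff_dx_ne_zero (hψ : LocRes.IsExpansionAt Q.1 ψ) :
    Valued.v (LocRes.D F' (ψ (algebraMap (RatFunc k) K RatFunc.X))) ≠ 0 := by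
  obtain ⟨t, ht, hfin, hsep, rfl⟩ := exists_separating (k := k) (K := K)
  obtain ⟨H, hH⟩ := Exp31.exists_isHasseFamily _ ht
  exact (Valuation.ne_zero_iff _).2 (Exp31.D_param_ne_zero hψ hH)

/-- The derivative of a prime below a finite place is a unit. -/
theorem val_derivative_prime (hψ : LocRes.IsExpansionAt Q.1 ψ) (he : IsOverWith Q p e) {π : k[X]}
    (hπ : Irreducible π) (hp : p.1 (ι π) < 1) : p.1 (ι (derivative π)) = 1 := by
  have hX := FF30.ord_X_nonneg_of_lt p hπ.ne_zero hp
  obtain ⟨t, H, hsep, hH⟩ := exists_hasse_rat (k := k) (K := K)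
  have hF : FF30.FF k K := (FF30.ratFunc_ff k).extension K
  have := Diff31.finite_coeffField hF hψ
  obtain ⟨E⟩ := Diff31.exists_residue_equiv hψ
  have h0 : ∀ l : KaehlerDifferential k F' →ₗ[F'] F', l = 0 := fun l => by
    have := Exp31.derivation_eq_zero_coeffField hψ hH (KaehlerDifferential.linearMapEquivDerivation k F' l)
    simpa using this
  have : Subsingleton (KaehlerDifferential k F') := ⟨fun a b => by
    rw [← sub_eq_zero]
    exact (Module.forall_dual_apply_eq_zero_iff F' _).1 fun l => by rw [h0 l]; rfl⟩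
  have : Algebra.FormallyUnramified k F' := ⟨this⟩
  have : Algebra.IsSeparable k F' := Algebra.FormallyUnramified.isSeparable k F'
  set x : RatFunc k := RatFunc.X
  have hxQ : Q.1 (algebraMap (RatFunc k) K x) ≤ 1 :=
    (FF30.isOverWith_le_one_iff he x).2 ((FF30.val_le_one_iff p).2 hX)
  set θ := E (IsLocalRing.residue Q.O ⟨_, hxQ⟩)
  have hres : ∀ g : k[X], aeval θ g = 0 ↔ p.1 (ι g) < 1 := fun g => by
    have hcoe : ((aeval (⟨_, hxQ⟩ : Q.O) g : Q.O) : K) = algebraMap (RatFunc k) K (ι g) := by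
      rw [algebraMap_poly]; exact (aeval_algebraMap_apply K (⟨_, hxQ⟩ : Q.O) g).symm
    have hhom : IsLocalRing.residue Q.O (aeval (⟨_, hxQ⟩ : Q.O) g) =
        aeval (IsLocalRing.residue Q.O ⟨_, hxQ⟩) g := by
      clear hcoe
      induction g using Polynomial.induction_on' with
      | add a b ha hb => simp only [map_add, ha, hb]
      | monomial n d => simp only [aeval_monomial, map_mul, map_pow]; rfl
    rw [show θ = (E : IsLocalRing.ResidueField Q.O →ₐ[k] F') (IsLocalRing.residue Q.O ⟨_, hxQ⟩) from rfl,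
      aeval_algHom_apply, ← hhom]
    change E _ = 0 ↔ _
    rw [map_eq_zero_iff _ E.injective, IsLocalRing.residue_eq_zero_iff]
    refine (Valuation.mem_maximalIdeal_iff (v := Q.1)).trans ?_
    rw [hcoe, he, pow_lt_one_iff_of_nonneg zero_le (FF30.isOverWith_pos he).ne']
  refine le_antisymm (FF30.val_poly_le_one p hX _) (not_lt.1 fun hlt => ?_)
  have hroot : aeval θ π = 0 := (hres π).2 hp
  have hsepπ : π.Separable := by
    have h := Algebra.IsSeparable.isSeparable k θ
    rw [IsSeparable, ← minpoly.eq_of_irreducible hπ hroot] at h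
    exact h.of_mul_left
  exact hsepπ.aeval_derivative_ne_zero hroot ((hres _).2 hlt)

/-- At a finite place `dx` has the order of the differential of a prime below. -/
theorem val_D_prime (hψ : LocRes.IsExpansionAt Q.1 ψ) (he : IsOverWith Q p e) {π : k[X]}
    (hπ : Irreducible π) (hp : p.1 (ι π) < 1) :
    Valued.v (LocRes.D F' (ψ (algebraMap (RatFunc k) K (ι π)))) =
      Valued.v (LocRes.D F' (ψ (algebraMap (RatFunc k) K RatFunc.X))) := by
  rw [algebraMap_poly, Res31.D_aeval, map_mul, hψ.1, ← algebraMap_poly, he,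
    val_derivative_prime hψ he hπ hp, one_pow, one_mul]

/-- Integers below a finite place vary no faster than `x`. -/
theorem val_D_le_rat (hψ : LocRes.IsExpansionAt Q.1 ψ) (he : IsOverWith Q p e) {π : k[X]}
    (hπ : Irreducible π) (hp : p.1 (ι π) < 1) {u : RatFunc k} (hu : p.1 u ≤ 1) :
    Valued.v (LocRes.D F' (ψ (algebraMap (RatFunc k) K u))) ≤
      Valued.v (LocRes.D F' (ψ (algebraMap (RatFunc k) K RatFunc.X))) := by
  have hX := FF30.ord_X_nonneg_of_lt p hπ.ne_zero hp
  have hπ0 : ι π ≠ 0 := by simpa using hπ.ne_zero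
  refine Diff31.val_D_le_of_gen hψ he (a₀ := RatFunc.X) ((FF30.val_le_one_iff p).2 hX) (p := π)
    (by rw [RatFunc.aeval_X_left_eq_algebraMap]; exact hp)
    (by rw [RatFunc.aeval_X_left_eq_algebraMap]; exact val_derivative_prime hψ he hπ hp)
    (fun u hu => ?_) (τ := ι π)
    (by rw [FF30.val_eq p hπ0, FF30.ord_irreducible p hπ hp])
    (vDiff_dx_ne_zero hψ) (val_D_prime hψ he hπ hp).le hu
  simpa only [RatFunc.aeval_X_left_eq_algebraMap] using exists_poly_sub_lt p hπ hp hu

/-- `dx` at a tamely ramified finite place. -/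
theorem val_D_X_finite (hψ : LocRes.IsExpansionAt Q.1 ψ) (he : IsOverWith Q p e)
    (hX : 0 ≤ p.ord (RatFunc.X : RatFunc k)) (het : (e : F') ≠ 0) :
    Valued.v (LocRes.D F' (ψ (algebraMap (RatFunc k) K RatFunc.X))) = exp (-((e : ℤ) - 1)) := by
  obtain ⟨π, hπ, hp⟩ := FF30.exists_irreducible_of_finite p hX
  rw [← val_D_prime hψ he hπ hp]
  refine Exp31.val_D_eq ?_ (by simpa using het)
  rw [hψ.1, he, FF30.val_eq p (by simpa using hπ.ne_zero), FF30.ord_irreducible p hπ hp, ← exp_nsmul]
  simp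

/-- `dx` in terms of `d(1/x)`. -/
theorem val_D_X_inv (hψ : LocRes.IsExpansionAt Q.1 ψ) :
    Valued.v (LocRes.D F' (ψ (algebraMap (RatFunc k) K RatFunc.X))) =
      Q.1 (algebraMap (RatFunc k) K RatFunc.X) ^ 2 *
        Valued.v (LocRes.D F' (ψ (algebraMap (RatFunc k) K (RatFunc.X⁻¹)))) := by
  set x : K := algebraMap (RatFunc k) K RatFunc.X
  have hx0 : x ≠ 0 := (_root_.map_ne_zero _).2 RatFunc.X_ne_zero
  rw [map_inv₀]
  have h := congrArg (fun z => LocRes.D F' (ψ z)) (mul_inv_cancel₀ hx0)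
  simp only [map_mul, Derivation.leibniz, map_one, Derivation.map_one_eq_zero, smul_eq_mul] at h
  have h' : LocRes.D F' (ψ x) = -(ψ x ^ 2 * LocRes.D F' (ψ x⁻¹)) := by
    have h1 : ψ x * ψ x⁻¹ = 1 := by rw [← map_mul, mul_inv_cancel₀ hx0, map_one]
    linear_combination (ψ x) * h - (LocRes.D F' (ψ x)) * h1
  rw [h', Valuation.map_neg, map_mul, map_pow, hψ.1]

/-- `dx` at a tamely ramified infinite place. -/
theorem val_D_X_infinite (hψ : LocRes.IsExpansionAt Q.1 ψ) (he : IsOverWith Q p e)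
    (hX : p.ord (RatFunc.X : RatFunc k) < 0) (het : (e : F') ≠ 0) :
    Valued.v (LocRes.D F' (ψ (algebraMap (RatFunc k) K RatFunc.X))) = exp ((e : ℤ) + 1) := by
  have hx : p.1 (RatFunc.X : RatFunc k) = exp 1 := by
    rw [FF30.val_eq p RatFunc.X_ne_zero, FF30.ord_inf p hX, neg_neg]
  rw [val_D_X_inv hψ, Exp31.val_D_eq (e := (e : ℤ)) ?_ (by simpa using het), he, hx, ← exp_nsmul,
    ← exp_nsmul, ← exp_add]
  · congr 1
    simp only [nsmul_eq_mul]
    push_cast
    ring
  · rw [hψ.1, he, map_inv₀, hx, ← exp_neg, ← exp_nsmul]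
    simp

end Groth.Agent.Hyp31
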