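import Groth.Agent.Hyp31.RatLocal

/-! Regular forms `z dx` on a double cover of the line. -/

namespace Groth.Agent.Hyp31

open FunFld WithZero Polynomial
open scoped LaurentSeries

universe u v w

variable {k : Type u} {K : Type v} [Field k] [Field K] [Algebra k K] [Algebra (RatFunc k) K]
  [IsScalarTower k (RatFunc k) K]

local notation "ι" => algebraMap (Polynomial k) (RatFunc k)

/-- The functions with a pole of order `< n` at infinity only are the polynomials of degree `< n`. -/
theorem mem_L_inf_iff {Pinf : Place k (RatFunc k)} (hinf : Pinf.ord (RatFunc.X : RatFunc k) < 0)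
    (n : ℕ) (u : RatFunc k) :
    u ∈ L (Finsupp.single Pinf ((n : ℤ) - 1)) ↔ ∃ g : k[X], g.degree < (n : WithBot ℕ) ∧ u = ι g := by
  classical
  set D : Divisor k (RatFunc k) := Finsupp.single Pinf ((n : ℤ) - 1)
  have hff := FF30.ratFunc_ff k
  let f : k[X] →ₗ[k] RatFunc k := (IsScalarTower.toAlgHom k k[X] (RatFunc k)).toLinearMap
  have hle : (Polynomial.degreeLT k n).map f ≤ L D := by
    rintro _ ⟨g, hg, rfl⟩
    change ι g ∈ L D
    rcases eq_or_ne g 0 with rfl | hg0
    · rw [map_zero]; exact zero_mem _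
    rw [SetLike.mem_coe, Polynomial.mem_degreeLT, Polynomial.degree_eq_natDegree hg0, Nat.cast_lt] at hg
    rw [FF30.mem_L]
    intro P
    rw [FF30.val_le_exp_iff P (by simpa using hg0)]
    by_cases hP : P = Pinf
    · subst hP
      rw [Finsupp.single_eq_same, FF30.ord_poly_inf P hinf hg0, FF30.ord_inf P hinf]
      omega
    · rw [Finsupp.single_eq_of_ne hP, neg_zero]
      exact FF30.ord_poly_nonneg P (not_lt.1 fun h => hP (FF30.inf_unique h hinf)) g
  have hn : Module.finrank k (L D) = n := by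
    have hdeg : D.deg = (n : ℤ) - 1 := by rw [FF30.deg_single, FF30.deg_inf hinf]; simp
    rcases Nat.eq_zero_or_pos n with rfl | hn
    · rw [hff.L_eq_bot_of_deg_neg (by rw [hdeg]; omega)]; simp
    · have h := FF30.ell_eq_of_deg_gt (FF30.ratFunc_isFunctionField k) (D := D)
        (by rw [hdeg, FF30.ratFunc_genus]; omega)
      rw [hdeg, FF30.ratFunc_genus] at h
      rw [ell] at h
      omega
  have := hff.finite_L D
  have heq := Submodule.eq_of_le_of_finrank_eq hle (by
    rw [hn, ← (Submodule.equivMapOfInjective f (RatFunc.algebraMap_injective k) (Polynomial.degreeLT k n)).finrank_eq,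
      (Polynomial.degreeLTEquiv k n).finrank_eq, Module.finrank_fin_fun])
  rw [← heq, Submodule.mem_map]
  constructor
  · rintro ⟨g, hg, rfl⟩; exact ⟨g, Polynomial.mem_degreeLT.1 hg, rfl⟩
  · rintro ⟨g, hg, rfl⟩; exact ⟨g, Polynomial.mem_degreeLT.2 hg, rfl⟩

/-- If the divisor of `r dx` is the pull-back of `(g - 1)∞`, and the functions below a pulled back divisor split
along `1, y`, then the regular forms are the `a r dx`, `deg a < g`. -/
theorem regular_iff_of_split (hdeg : Module.finrank (RatFunc k) K = 2) {y : K}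
    (hy : y ∉ Set.range (algebraMap (RatFunc k) K)) {E : Divisor k (RatFunc k)}
    (hsplit : ∀ (A : Divisor k (RatFunc k)) (u v : RatFunc k),
      algebraMap (RatFunc k) K u + algebraMap (RatFunc k) K v * y ∈ L (conorm K A) ↔
        u ∈ L A ∧ v ∈ L (A + E))
    {g : ℕ} (hg : (g : ℤ) = -1 - E.deg)
    {F : Place k K → Type w} [∀ P, Field (F P)] [∀ P, Algebra k (F P)]
    {φ : ∀ P, K →ₐ[k] (F P)⸨X⸩} (hφ : ∀ P, LocRes.IsExpansionAt P.1 (φ P)) {r : K} (hr : r ≠ 0)
    (hval : ∀ (Q : Place k K) (p : Place k (RatFunc k)) (e : ℕ), IsOverWith Q p e →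
      Valued.v (LocRes.D (F Q) (φ Q (algebraMap (RatFunc k) K RatFunc.X))) * Q.1 r =
        if p.ord (RatFunc.X : RatFunc k) < 0 then exp (-(e : ℤ) * ((g : ℤ) - 1)) else 1)
    (z : K) :
    (∀ P, LocRes.vDiff (φ P) z (algebraMap (RatFunc k) K RatFunc.X) ≤ 1) ↔
      ∃ a : k[X], a.degree < (g : WithBot ℕ) ∧ z = algebraMap (RatFunc k) K (ι a) * r := by
  classical
  have hff := FF30.ratFunc_ff k
  have := FF30.finite_of_finrank_two hdeg
  obtain ⟨Pinf, hinf, -⟩ := FF30.exists_inf k
  set A : Divisor k (RatFunc k) := Finsupp.single Pinf ((g : ℤ) - 1)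
  obtain ⟨w, rfl⟩ : ∃ w, z = w * r := ⟨z * r⁻¹, by field_simp⟩
  have key : (∀ P, LocRes.vDiff (φ P) (w * r) (algebraMap (RatFunc k) K RatFunc.X) ≤ 1) ↔
      w ∈ L (conorm K A) := by
    rw [FF30.mem_L]
    refine forall_congr' fun Q => ?_
    obtain ⟨p, e, -, he⟩ := hff.exists_isOverWith (K' := K) Q
    rw [hff.conorm_apply A he]
    have hv : LocRes.vDiff (φ Q) (w * r) (algebraMap (RatFunc k) K RatFunc.X) =
        Q.1 w * (Valued.v (LocRes.D (F Q) (φ Q (algebraMap (RatFunc k) K RatFunc.X))) * Q.1 r) := by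
      rw [LocRes.vDiff, map_mul, (hφ Q).1, map_mul, mul_assoc, mul_comm (Q.1 r)]
    rw [hv, hval Q p e he]
    by_cases h : p.ord (RatFunc.X : RatFunc k) < 0
    · rw [if_pos h, FF30.inf_unique h hinf, Finsupp.single_eq_same, neg_mul, exp_neg,
        ← div_eq_mul_inv, div_le_one₀ (zero_lt_iff.2 exp_ne_zero)]
    · have hp : p ≠ Pinf := fun hp => h (hp ▸ hinf)
      rw [if_neg h, Finsupp.single_eq_of_ne hp, mul_one, mul_zero, exp_zero]
  rw [key]
  obtain ⟨u, v, rfl⟩ := FF30.exists_repr_quadratic hdeg hy w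
  rw [hsplit A u v, mem_L_inf_iff hinf g u]
  have hv : v ∈ L (A + E) ↔ v = 0 := by
    rw [hff.L_eq_bot_of_deg_neg (D := A + E) ?_, Submodule.mem_bot]
    rw [FF30.deg_add, FF30.deg_single, FF30.deg_inf hinf]
    push_cast
    omega
  rw [hv]
  constructor
  · rintro ⟨⟨a, ha, rfl⟩, rfl⟩
    exact ⟨a, ha, by rw [map_zero, zero_mul, add_zero]⟩
  · rintro ⟨a, ha, h⟩
    have h' : algebraMap (RatFunc k) K u + algebraMap (RatFunc k) K v * y =
        algebraMap (RatFunc k) K (ι a) + algebraMap (RatFunc k) K 0 * y := by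
      rw [map_zero, zero_mul, add_zero]; exact mul_right_cancel₀ hr h
    obtain ⟨hu, hv⟩ := FF30.repr_unique hy h'
    exact ⟨⟨a, ha, hu⟩, hv⟩

end Groth.Agent.Hyp31
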